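import Cfsg.Agent.H587.KB8.FourOut
import Cfsg.Agent.H587.KB8.Two

/-!
# A similitude which centralizes a Sylow subgroup of `PΩ₈⁺(q)`, `p ∣ q² - 1`, `q` odd (helper563, S4791 + S4927)
-/

set_option autoImplicit false
set_option linter.unusedSectionVars false

open QuadraticMap Module Cfsg Cfsg.Agent.LieClassical.OrthCore Cfsg.Agent.LieClassical.OrthTrans
open Cfsg.Agent.LieClassical.OrthFinite Cfsg.Agent.ClassicalGeometry Cfsg.Agent.H508.KB
open Cfsg.Agent.ClassicalGeometry.OrthAut1 Cfsg.Agent.ClassicalGeometry.OrthSemi Cfsg.Agent.H932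
open Cfsg.Agent.H200.LinFix Cfsg.Agent.H587.KB8

namespace Cfsg.Agent.H563.XZ.PO8out

/-- a nondegenerate binary form over a finite field of odd order is universal -/
theorem exists_ab {F : Type*} [Field F] [Fintype F] (h2 : (2 : F) ≠ 0) {t : F} (ht : 4 - t ^ 2 ≠ 0) (c : F) :
    ∃ a b : F, a ^ 2 + t * a * b + b ^ 2 = c := by
  have h4 : (4 : F) ≠ 0 := by
    have : (4 : F) = 2 * 2 := by norm_num
    rw [this]
    exact mul_ne_zero h2 h2
  have hd : (1 - t ^ 2 / 4 : F) ≠ 0 := by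
    intro h
    apply ht
    field_simp at h
    rwa [mul_zero] at h
  have hodd : Fintype.card F % 2 = 1 := by
    by_contra hne
    have h5 : 2 ∣ Fintype.card F := by omega
    obtain ⟨r, hch, n, hr, hc⟩ := FiniteField.card' F
    rw [hc] at h5
    have h6 := (Nat.prime_dvd_prime_iff_eq Nat.prime_two hr).1 (Nat.prime_two.dvd_of_dvd_pow h5)
    subst h6
    exact h2 (by exact_mod_cast (CharP.cast_eq_zero F 2))
  obtain ⟨x, y, hxy⟩ := FiniteField.exists_root_sum_quadratic (R := F)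
    (f := Polynomial.C (1 : F) * Polynomial.X ^ 2 + Polynomial.C 0 * Polynomial.X + Polynomial.C (-c))
    (g := Polynomial.C (1 - t ^ 2 / 4 : F) * Polynomial.X ^ 2 + Polynomial.C 0 * Polynomial.X + Polynomial.C 0)
    (Polynomial.degree_quadratic one_ne_zero) (Polynomial.degree_quadratic hd) hodd
  simp only [Polynomial.eval_add, Polynomial.eval_mul, Polynomial.eval_C, Polynomial.eval_pow, Polynomial.eval_X] at hxy
  refine ⟨x - t * y / 2, y, ?_⟩
  have e : (x - t * y / 2) ^ 2 + t * (x - t * y / 2) * y + y ^ 2 = x ^ 2 + (1 - t ^ 2 / 4) * y ^ 2 := by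
    field_simp
    ring
  rw [e]
  linear_combination hxy

section plane

variable {F : Type*} [Field F] (g : Matrix.SpecialLinearGroup (Fin 2) F)

theorem tr_ne (hn : Nondeg (bl g).toQuadraticMap) : 4 - (g.1 0 0 + g.1 1 1) ^ 2 ≠ 0 := by
  intro h
  have hdet := det_eq g
  let Mt : Matrix (Fin 2) (Fin 2) F := !![g.1 0 0 - g.1 1 1, 2 * g.1 0 1; 2 * g.1 1 0, g.1 1 1 - g.1 0 0]
  have hM : Mt.det = 0 := by
    rw [Matrix.det_fin_two_of]
    linear_combination h + 4 * hdet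
  obtain ⟨v, hv, e⟩ := Matrix.exists_mulVec_eq_zero_iff.2 hM
  apply hv
  apply hn
  intro w
  have e0 := congrFun e 0
  have e1 := congrFun e 1
  simp only [Mt, Matrix.mulVec, dotProduct, Fin.sum_univ_two, Matrix.of_apply, Matrix.cons_val', Matrix.cons_val_zero,
    Matrix.cons_val_one, Pi.zero_apply, Matrix.cons_val_fin_one] at e0 e1
  have hpol : polar (bl g).toQuadraticMap v w = bl g v w + bl g w v := by
    simp only [polar, LinearMap.BilinMap.toQuadraticMap_apply, map_add, LinearMap.add_apply]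
    ring
  rw [hpol, bl_apply, bl_apply]
  linear_combination w 0 * e1 - w 1 * e0

theorem bl_T (a b : F) (v : Fin 2 → F) :
    bl g (a • v + b • Matrix.SpecialLinearGroup.toLin' g v) (a • v + b • Matrix.SpecialLinearGroup.toLin' g v) =
      (a ^ 2 + (g.1 0 0 + g.1 1 1) * a * b + b ^ 2) * bl g v v := by
  have h1 : bl g (Matrix.SpecialLinearGroup.toLin' g v) v = 0 := by
    rw [bl_apply, lin_apply, lin_apply]
    ring
  have h2 : bl g v (Matrix.SpecialLinearGroup.toLin' g v) = (g.1 0 0 + g.1 1 1) * bl g v v := by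
    have hdet := det_eq g
    rw [bl_apply, bl_apply, lin_apply, lin_apply]
    ring
  simp only [map_add, map_smul, LinearMap.add_apply, LinearMap.smul_apply, smul_eq_mul]
  rw [h1, h2, bl_inv]
  ring

end plane

/-- **a noncentral class of automorphisms which fixes a Sylow subgroup pointwise** -/
theorem exists_noncentral_two {F : Type} [Field F] [Fintype F] (h2 : (2 : F) ≠ 0) {p : ℕ} [Fact p.Prime] (h11 : 11 ≤ p)
    (hpF : (p : F) ≠ 0) (hp : p ∣ Fintype.card F ^ 2 - 1) [Finite (P (LieClassical.QuadForms.plusForm 4 F))] :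
    ∃ S : Sylow p (P (LieClassical.QuadForms.plusForm 4 F)), ∃ a ∈ fixOut S, ∃ b, a * b ≠ b * a := by
  have hpp : p.Prime := Fact.out
  have hp2 : p ≠ 2 := by omega
  have hodd : Odd p := hpp.odd_of_ne_two hp2
  obtain ⟨r, hch, n, hr, hc⟩ := FiniteField.card' F
  have hfr : Fact r.Prime := ⟨hr⟩
  -- the element of order `p`
  obtain ⟨g, hg⟩ := exists_prime_orderOf_dvd_card' (G := Matrix.SpecialLinearGroup (Fin 2) F) p (by
    rw [Cfsg.Agent.ClassicalGeometry.PSL2Basic.card_SL2]; exact Dvd.dvd.mul_left hp _)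
  have hgp : g ^ p = 1 := by rw [← hg, pow_orderOf_eq_one]
  have hg1 : g ≠ 1 := by
    rintro rfl
    rw [orderOf_one] at hg
    exact hpp.one_lt.ne hg
  have hnd := nondeg_bl g hp2 hgp hg1 hpF
  -- the model
  obtain ⟨ψ, hψ⟩ := exists_psi (qW g) (nondeg_qW g hnd) finrank_WW (pl_qW g)
  rw [Cfsg.Agent.AutOrth.Main.plusForm_eq] at hψ
  have hG : Good (LieClassical.QuadForms.plusForm 4 F) := Cfsg.Agent.AutOrth.Main.good_plus (by norm_num)
  set Q := LieClassical.QuadForms.plusForm 4 F with hQ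
  have hfinV : Finite ((Fin 4 ⊕ Fin 4 → F) ≃ₗ[F] (Fin 4 ⊕ Fin 4 → F)) :=
    Finite.of_injective (fun g : (Fin 4 ⊕ Fin 4 → F) ≃ₗ[F] (Fin 4 ⊕ Fin 4 → F) =>
      (g : (Fin 4 ⊕ Fin 4 → F) → (Fin 4 ⊕ Fin 4 → F))) DFunLike.coe_injective
  set G1 : (Fin 4 ⊕ Fin 4 → F) ≃ₗ[F] (Fin 4 ⊕ Fin 4 → F) := cj ψ (dz g fun _ => 1) with hG1
  have hG1p : G1 ^ p = 1 := by rw [hG1, ← map_pow, dz_pow g hgp, map_one]
  have hE : G1 ∈ E Q := by
    refine mem_E_of_odd hG (fun v => ?_) hodd hG1p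
    obtain ⟨w, rfl⟩ := ψ.surjective v
    rw [cj_apply, hψ, hψ, qW_dz]
  -- a Sylow subgroup
  have hfp : IsPGroup p (Subgroup.zpowers (⟨G1, hE⟩ : ↥(E Q))) := by
    rw [IsPGroup.iff_orderOf]
    rintro ⟨x, k, rfl⟩
    have h1 : ((⟨G1, hE⟩ : ↥(E Q)) ^ k) ^ p = 1 := by
      rw [← zpow_natCast, ← zpow_mul, mul_comm, zpow_mul, zpow_natCast]
      have h3 : (⟨G1, hE⟩ : ↥(E Q)) ^ p = 1 := Subtype.ext hG1p
      rw [h3, one_zpow]
    have h2 : orderOf (⟨(⟨G1, hE⟩ : ↥(E Q)) ^ k, k, rfl⟩ : Subgroup.zpowers (⟨G1, hE⟩ : ↥(E Q))) ∣ p ^ 1 := by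
      rw [pow_one]
      exact orderOf_dvd_of_pow_eq_one (Subtype.ext h1)
    obtain ⟨j, -, hj⟩ := (Nat.dvd_prime_pow hpp).1 h2
    exact ⟨j, hj⟩
  obtain ⟨S, hS⟩ := hfp.exists_le_sylow
  have hx1 : (⟨G1, hE⟩ : ↥(E Q)) ∈ (S : Subgroup ↥(E Q)) := hS (Subgroup.mem_zpowers _)
  have hab : ∀ x ∈ (S : Subgroup ↥(E Q)), ∀ y ∈ (S : Subgroup ↥(E Q)), x * y = y * x := by
    intro x hx y hy
    let ρ : ↥(S : Subgroup ↥(E Q)) →* Module.End F (Fin 4 ⊕ Fin 4 → F) :=
      (LinearEquiv.automorphismGroup.toLinearMapMonoidHom (R := F) (M := Fin 4 ⊕ Fin 4 → F)).comp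
        ((E Q).subtype.comp (S : Subgroup ↥(E Q)).subtype)
    have hρ : Function.Injective ρ := by
      intro a b hab
      apply Subtype.ext
      apply Subtype.ext
      ext1 v
      exact LinearMap.congr_fun hab v
    have h3 := Cfsg.Agent.H308.LemB.pgroup_comm_of_finrank_lt ρ hρ hpp S.2 hpF (by
      rw [Module.finrank_fintype_fun_eq_card]
      simp
      omega) ⟨x, hx⟩ ⟨y, hy⟩
    exact congrArg Subtype.val h3
  -- the similitude
  obtain ⟨c, hcs⟩ := Cfsg.Agent.H989.OutOrth.Plus.exists_nonsquare h2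
  obtain ⟨a, b, hab'⟩ := exists_ab h2 (tr_ne g hnd) (c : F)
  have hsum : ∀ v, G1 v + G1⁻¹ v = (g.1 0 0 + g.1 1 1) • v := by
    intro v
    obtain ⟨w, rfl⟩ := ψ.surjective v
    rw [hG1, ← map_inv, cj_apply, cj_apply, ← map_add, ← map_smul]
    congr 1
    ext1 j
    rw [Pi.add_apply, Pi.smul_apply, dz_apply, dz_inv_apply, pow_one, add_inv]
  have hinv : ∀ v, G1⁻¹ (G1 v) = v := fun v => G1.symm_apply_apply v
  have hinv' : ∀ v, G1 (G1⁻¹ v) = v := fun v => G1.apply_symm_apply v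
  have hc0 := c.ne_zero
  let T : (Fin 4 ⊕ Fin 4 → F) ≃ₗ[F] (Fin 4 ⊕ Fin 4 → F) :=
    { toFun := fun v => a • v + b • G1 v
      map_add' := fun v w => by rw [map_add, smul_add, smul_add]; abel
      map_smul' := fun k v => by
        rw [map_smul, RingHom.id_apply, smul_add, smul_comm k a, smul_comm k b]
      invFun := fun v => (c : F)⁻¹ • (a • v + b • G1⁻¹ v)
      left_inv := fun v => by
        have h3 : a • (a • v + b • G1 v) + b • G1⁻¹ (a • v + b • G1 v) =
            (a ^ 2 + (g.1 0 0 + g.1 1 1) * a * b + b ^ 2) • v := by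
          rw [map_add, map_smul, map_smul, hinv]
          have h4 : (a ^ 2 + (g.1 0 0 + g.1 1 1) * a * b + b ^ 2) • v = a ^ 2 • v + (a * b) • (G1 v + G1⁻¹ v) + b ^ 2 • v := by
            rw [hsum]; module
          rw [h4]; module
        show (c : F)⁻¹ • (a • (a • v + b • G1 v) + b • G1⁻¹ (a • v + b • G1 v)) = v
        rw [h3, hab', smul_smul, inv_mul_cancel₀ hc0, one_smul]
      right_inv := fun v => by
        have h3 : a • (a • v + b • G1⁻¹ v) + b • G1 (a • v + b • G1⁻¹ v) =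
            (a ^ 2 + (g.1 0 0 + g.1 1 1) * a * b + b ^ 2) • v := by
          rw [map_add, map_smul, map_smul, hinv']
          have h4 : (a ^ 2 + (g.1 0 0 + g.1 1 1) * a * b + b ^ 2) • v = a ^ 2 • v + (a * b) • (G1 v + G1⁻¹ v) + b ^ 2 • v := by
            rw [hsum]; module
          rw [h4]; module
        show a • ((c : F)⁻¹ • (a • v + b • G1⁻¹ v)) + b • G1 ((c : F)⁻¹ • (a • v + b • G1⁻¹ v)) = v
        rw [map_smul, smul_comm a, smul_comm b, ← smul_add, h3, hab', smul_smul, inv_mul_cancel₀ hc0, one_smul] }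
  have hTa : ∀ v, T v = a • v + b • G1 v := fun v => rfl
  have hTQ : ∀ v, Q (T v) = c * Q v := by
    intro v
    obtain ⟨w, rfl⟩ := ψ.surjective v
    have h3 : T (ψ w) = ψ (fun i => a • w i + b • Matrix.SpecialLinearGroup.toLin' g (w i)) := by
      rw [hTa, hG1, cj_apply, ← map_smul, ← map_smul, ← map_add]
      congr 1
      ext1 i
      rw [Pi.add_apply, Pi.smul_apply, Pi.smul_apply, dz_apply, pow_one]
    rw [h3, hψ, hψ, qW_apply, qW_apply, Finset.mul_sum]
    refine Finset.sum_congr rfl fun i _ => ?_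
    rw [LinearMap.BilinMap.toQuadraticMap_apply, LinearMap.BilinMap.toQuadraticMap_apply, bl_T, hab']
  have hSS : IsSS Q (RingEquiv.refl F) (c : F) T.toEquiv :=
    ⟨c.ne_zero, fun u v => map_add T u v, fun a v => map_smul T a v, fun v => hTQ v⟩
  let MM : Gam Q := ⟨T.toEquiv, _, _, hSS⟩
  -- it fixes the Sylow subgroup pointwise
  set Sb : Sylow p (P Q) := S.mapSurjective (f := QuotientGroup.mk' (Subgroup.center ↥(E Q)))
    (QuotientGroup.mk'_surjective _) with hSb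
  have hfix : ∀ x ∈ (Sb : Subgroup (P Q)), Psi Q MM x = x := by
    rintro _ ⟨y, hy, rfl⟩
    change Psi Q MM (QuotientGroup.mk y) = QuotientGroup.mk y
    rw [Psi_mk]
    congr 1
    apply Subtype.ext
    rw [coe_conjE]
    have h3 : ∀ v, y.1 (G1 v) = G1 (y.1 v) := fun v =>
      DFunLike.congr_fun (congrArg Subtype.val (hab y hy _ hx1)) v
    ext1 v
    rw [conjLin_apply]
    have h4 : y.1 (T (T.symm v)) = T (y.1 (T.symm v)) := by
      rw [hTa, hTa, map_add, map_smul, map_smul, h3]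
    rw [LinearEquiv.apply_symm_apply] at h4
    exact h4.symm
  -- conclusion
  have hf1 : (1 : ℕ) ≤ n := n.2
  have hr2 : r ≠ 2 := by
    rintro rfl
    exact h2 (by exact_mod_cast (CharP.cast_eq_zero F 2))
  have hcard := Cfsg.Agent.H989.OutOrth.Four.card_Psi (F := F) hf1 hc
  rw [if_neg hr2] at hcard
  have hD := Cfsg.Agent.H989.OutOrth.Forms.card_D_eq hf1 hc hG (Cfsg.Agent.H989.OutOrth.Four.sg_surj4 hG) hcard
  have hnc := Cfsg.Agent.H989.OutOrth.Small.not_comm_of_eight hG hD (Cfsg.Agent.H989.OutOrth.Four.one_ne (F := F))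
    (δ0 := MM) hSS (fun x _ => Cfsg.Agent.H989.OutOrth.Small.sq_cases hcs x)
  exact ⟨Sb, Cfsg.Agent.H989.OutOrth.Basic.out Q MM, ⟨Psi Q MM, hfix, rfl⟩, _, hnc⟩

end Cfsg.Agent.H563.XZ.PO8out
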