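import Cfsg.Agent.H563.XZ.OwnSp
import Cfsg.Agent.H712.XZ.Cls

set_option autoImplicit false
set_option linter.unusedSectionVars false

namespace Cfsg.Agent.H563.XZ.OwnSpRow

open Cfsg Cfsg.Agent.H563.XZ.OwnTor Cfsg.Agent.H563.XZ.OwnSp Cfsg.Agent.H712.XZ

universe u v

/-- isomorphic groups -/
theorem tcls_congr {S : Type u} {S' : Type v} [Group S] [Finite S] [Group S'] {p m : ℕ} [Fact p.Prime] (e : S ≃* S')
    (h : TCls p m S) : TCls p m S' := by
  obtain ⟨x, h1, h2, h3⟩ := h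
  refine ⟨fun i => e (x i), fun i => ?_, fun i => ?_, fun i j σ hσ => ?_⟩
  · rw [MulEquiv.orderOf_eq]
    exact h1 i
  · obtain ⟨R, hR⟩ := h2 i
    refine ⟨R.mapSurjective (f := e.toMonoidHom) e.surjective, fun u hu => ?_⟩
    have hu' : u ∈ (R : Subgroup S).map e.toMonoidHom := hu
    obtain ⟨v, hv, rfl⟩ := hu'
    have h2 : e (x i * v * (x i)⁻¹) ∈ (R : Subgroup S).map e.toMonoidHom := ⟨_, hR v hv, rfl⟩
    rw [map_mul, map_mul, map_inv] at h2
    exact h2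
  · refine h3 i j ((e.trans σ).trans e.symm) ?_
    show e.symm (σ (e (x i))) = x j
    rw [hσ, e.symm_apply_apply]

/-- numbers in a field with `11` elements -/
theorem eleven {F : Type u} [Field F] [CharP F 11] :
    ∃ a b : Fˣ, (a : F) ≠ b ∧ (a : F) * b ≠ 1 ∧ (a : F) * a ≠ 1 ∧ (b : F) * b ≠ 1 := by
  have h : ∀ n : ℕ, ¬ 11 ∣ n → (n : F) ≠ 0 := fun n hn h => hn ((CharP.cast_eq_zero_iff F 11 n).1 h)
  have h2 := h 2 (by norm_num)
  have h3 := h 3 (by norm_num)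
  have h1 : ((1 : ℕ) : F) ≠ 0 := h 1 (by norm_num)
  have h5 := h 5 (by norm_num)
  have h8 := h 8 (by norm_num)
  push_cast at h1 h2 h3 h5 h8
  refine ⟨Units.mk0 2 h2, Units.mk0 3 h3, ?_, ?_, ?_, ?_⟩
  all_goals
    simp only [Units.val_mk0]
    intro e
  · exact h1 (by linear_combination -e)
  · exact h5 (by linear_combination e)
  · exact h3 (by linear_combination e)
  · exact h8 (by linear_combination e)

/-- **`PSp_{2m}(q)`** -/
theorem row_psp_aux {F : Type u} [Field F] [Fintype F] {p m : ℕ} [hp : Fact p.Prime] [CharP F p] (h11 : 11 ≤ p)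
    (hm : 2 ≤ m) : ∃ n, 4 * (p - 1) < n ^ 2 ∧ TCls p n (PSp m F) := by
  have h2 : (2 : F) ≠ 0 := by
    intro h
    have h3 : ((2 : ℕ) : F) = 0 := by exact_mod_cast h
    rw [CharP.cast_eq_zero_iff F p] at h3
    have := Nat.le_of_dvd (by norm_num) h3
    omega
  obtain ⟨⟨f, hf⟩, hpp, hF⟩ := FiniteField.card F p
  have hF' : Fintype.card F = p ^ f := hF
  have hs : IsSimpleGroup (PSp m F) := Cfsg.Agent.S0270.result m (by omega) fun _ => by
    have h4 : p ∣ Fintype.card F := by rw [hF']; exact dvd_pow_self p (by omega)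
    have := Nat.le_of_dvd Fintype.card_pos h4
    omega
  obtain ⟨Q, hQ⟩ := exists_sylow (F := F) (p := p) hm
  refine exists_cls hF' hf h11 (fun c => (QuotientGroup.mk (t hm c) : PSp m F)) (fun c => (hQ _).1)
    (fun c => ⟨Q, (hQ _).2⟩) (fun c c' σ h => auto_t hm h2 c c' σ h) fun hp11 _ => ?_
  subst hp11
  obtain ⟨a, b, h5, h6, h7, h8⟩ := eleven (F := F)
  exact ⟨QuotientGroup.mk (x0 hm a b), (hQ _).1, ⟨Q, (hQ _).2⟩, fun σ c => auto_x0 hm h2 a b h5 h6 h7 h8 c σ⟩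

theorem row_psp {S : Type u} [Group S] [Finite S] {p : ℕ} [hp : Fact p.Prime] (h11 : 11 ≤ p) (h : IsPSpChar p S) :
    ∃ n, 4 * (p - 1) < n ^ 2 ∧ TCls p n S := by
  obtain ⟨F, _, _, _, m, hm, -, ⟨e⟩⟩ := h
  obtain ⟨n, h1, h2⟩ := row_psp_aux (F := F) h11 hm
  exact ⟨n, h1, tcls_congr e.symm h2⟩

end Cfsg.Agent.H563.XZ.OwnSpRow
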