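import Cfsg.Agent.H563.XZ.OwnOm
import Cfsg.Agent.H563.XZ.OwnSpRow

set_option autoImplicit false
set_option linter.unusedSectionVars false

namespace Cfsg.Agent.H563.XZ.OwnOmRow

open QuadraticMap Cfsg.Agent.LieClassical.OrthCore Cfsg.Agent.LieClassical.OrthTrans
  Cfsg.Agent.LieClassical.OrthSimple Cfsg.Agent.AutOrth.SemiSim Cfsg.Agent.AutOrth.Gen
  Cfsg.Agent.AutOrth.Extend Cfsg.Agent.ClassicalGeometry.OrthAut1
  Cfsg.Agent.LieClassical.OrthFinite Cfsg.Agent.LieClassical Cfsg.Agent.AutOrth.Main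
  Cfsg.Agent.TitsThree Cfsg.Agent.TitsThree.Siegel Cfsg.Agent.TitsThree.SiegelGen
  Cfsg.Agent.TitsThree.WittFrame Cfsg.Agent.TitsThree.WBridge Cfsg.Agent.TitsThree.WittWeyl
  Cfsg.Agent.TitsThree.KSideO Cfsg.Agent.Nodes Cfsg.Agent.Nodes.WittRoot Cfsg.Agent.H563.XZ.OwnTor
  Cfsg.Agent.H563.XZ.OwnOm Cfsg Cfsg.Agent.LieClassical.OrthForms Cfsg.Agent.Nodes.WittAll Cfsg.Agent.Nodes.WittInst
  Cfsg.Agent.H712.XZ

universe u v

theorem L_ne_zero {ι : Type*} [DecidableEq ι] {F : Type*} [Field F] (x y : ι × Bool) {c : F} (hc : c ≠ 0)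
    (z : ι × Bool) : L x y c z ≠ 0 := by
  unfold L
  split_ifs
  · exact hc
  · exact inv_ne_zero hc
  · exact one_ne_zero

section orth

variable {ι : Type} [Fintype ι] [DecidableEq ι] {F : Type u} [Field F] {Q : QuadraticForm F (ι → F)}
  {m : ℕ} (W : WFrame (KSideO.PO Q) m)

theorem mono_t (hm : 3 ≤ m) (c : Fˣ) : Mono (toFrame W) (t W hm c : (ι → F) ≃ₗ[F] (ι → F)) id :=
  fun z => ⟨_, L_ne_zero _ _ c.ne_zero z, t_apply W hm c z⟩

theorem mono_x0 (hm : 3 ≤ m) (a b : Fˣ) : Mono (toFrame W) (x0 W hm a b : (ι → F) ≃ₗ[F] (ι → F)) id :=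
  fun z => ⟨_, mul_ne_zero (L_ne_zero _ _ a.ne_zero z) (L_ne_zero _ _ b.ne_zero z), x0_apply W hm a b z⟩

/-- numbers in a field with `11` elements -/
theorem eleven [CharP F 11] : ∃ a b : Fˣ, (a : F) * a ≠ 1 ∧ (b : F) * b ≠ 1 ∧ ((a : F) * b) * (a * b) ≠ 1 ∧
    (a : F) * a ≠ b * b := by
  have h : ∀ n : ℕ, ¬ 11 ∣ n → (n : F) ≠ 0 := fun n hn h => hn ((CharP.cast_eq_zero_iff F 11 n).1 h)
  have h2 := h 2 (by norm_num)
  have h3 := h 3 (by norm_num)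
  have h5 := h 5 (by norm_num)
  have h8 := h 8 (by norm_num)
  have h35 := h 35 (by norm_num)
  push_cast at h2 h3 h5 h8 h35
  refine ⟨Units.mk0 2 h2, Units.mk0 3 h3, ?_, ?_, ?_, ?_⟩
  all_goals
    simp only [Units.val_mk0]
    intro e
  · exact h3 (by linear_combination e)
  · exact h8 (by linear_combination e)
  · exact h35 (by linear_combination e)
  · exact h5 (by linear_combination -e)

/-- the general row -/
theorem row_orth [Fintype F] {p : ℕ} [hp : Fact p.Prime] [CharP F p] (h11 : 11 ≤ p) (hG : Good Q)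
    (h7 : 7 ≤ Fintype.card ι) (hP : ∀ α : MulAut (P Q), Pt hG α) (hm : 3 ≤ m)
    (hT : ∃ R : Sylow p (Cfsg.POmega F ⇑Q), ∀ g : E Q, Mono (toFrame W) (g : (ι → F) ≃ₗ[F] (ι → F)) id →
      ¬ p ∣ orderOf (toPOmega hG g) ∧ ∀ u ∈ (R : Subgroup (Cfsg.POmega F ⇑Q)),
        toPOmega hG g * u * (toPOmega hG g)⁻¹ ∈ (R : Subgroup (Cfsg.POmega F ⇑Q))) :
    ∃ n, 4 * (p - 1) < n ^ 2 ∧ TCls p n (Cfsg.POmega F ⇑Q) := by
  obtain ⟨⟨f, hf⟩, hpp, hF⟩ := FiniteField.card F p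
  obtain ⟨R, hR⟩ := hT
  refine exists_cls hF hf h11 (fun c => toPOmega hG (t W hm c)) (fun c => (hR _ (mono_t W hm c)).1)
    (fun c => ⟨R, (hR _ (mono_t W hm c)).2⟩) (fun c c' σ h => auto_t W hG h7 hP hm c c' σ h) fun hp11 _ => ?_
  subst hp11
  obtain ⟨a, b, h5, h6, h7', h8⟩ := eleven (F := F)
  exact ⟨toPOmega hG (x0 W hm a b), (hR _ (mono_x0 W hm a b)).1, ⟨R, (hR _ (mono_x0 W hm a b)).2⟩,
    fun σ c => auto_x0 W hG h7 hP hm a b h5 h6 h7' h8 c σ⟩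

/-- the torus of the model of type `C` -/
theorem sylow_C [Finite F] {p : ℕ} [hp : Fact p.Prime] [CharP F p] (hG : Good Q) (hm : 3 ≤ m)
    [IsSimpleGroup (Cfsg.POmega F ⇑Q)] {p0 : (toFrame W).Adm} (hp0 : p0.c ≠ 0) (hA : AmbT (toFrame W) p (E Q)) :
    ∃ R : Sylow p (Cfsg.POmega F ⇑Q), ∀ g : E Q, Mono (toFrame W) (g : (ι → F) ≃ₗ[F] (ι → F)) id →
      ¬ p ∣ orderOf (toPOmega hG g) ∧ ∀ u ∈ (R : Subgroup (Cfsg.POmega F ⇑Q)),
        toPOmega hG g * u * (toPOmega hG g)⁻¹ ∈ (R : Subgroup (Cfsg.POmega F ⇑Q)) := by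
  have : Nonempty (Fin m) := ⟨⟨0, by omega⟩⟩
  have : Finite (CoxeterMatrix.B m).Group := Nodes.TypeC.finite_W (CoxeterMatrix.B m).toCoxeterSystem
  have R := rgdC_model (model W hG ⟨_, hp0⟩) hA hp0 (CoxeterMatrix.B m).toCoxeterSystem
  obtain ⟨R, hR⟩ := torus_of_rgd hp R (Nodes.WittModel.G1_eq_top _ (by omega) _)
  exact ⟨R, fun g hg => hR _ ⟨g, ⟨g.2, hg⟩, rfl⟩⟩

/-- the torus of the model of type `D` -/
theorem sylow_D [Finite F] {n : ℕ} (W : WFrame (KSideO.PO Q) (n + 2)) {p : ℕ} [hp : Fact p.Prime] [CharP F p]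
    (hG : Good Q) [IsSimpleGroup (Cfsg.POmega F ⇑Q)] (hA : Amb (toFrame W) (E Q))
    (h0 : ∀ p : (toFrame W).Adm, p = 1) :
    ∃ R : Sylow p (Cfsg.POmega F ⇑Q), ∀ g : E Q, Mono (toFrame W) (g : (ι → F) ≃ₗ[F] (ι → F)) id →
      ¬ p ∣ orderOf (toPOmega hG g) ∧ ∀ u ∈ (R : Subgroup (Cfsg.POmega F ⇑Q)),
        toPOmega hG g * u * (toPOmega hG g)⁻¹ ∈ (R : Subgroup (Cfsg.POmega F ⇑Q)) := by
  have : Finite (Nodes.TypeD.M n).Group := Nodes.TypeD.finite_W (Nodes.TypeD.M n).toCoxeterSystem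
  have R := rgdD_model W hG hA h0 (p := p) (Nodes.TypeD.M n).toCoxeterSystem
  obtain ⟨R, hR⟩ := torus_of_rgd hp R (G1D_eq_top W (toPOmega hG) (toPOmega_surjective hG) h0 _)
  exact ⟨R, fun g hg => hR _ ⟨g, ⟨g.2, hg⟩, rfl⟩⟩

end orth

section rows

variable {F : Type u} [Field F] {m p : ℕ}

theorem two_ne [Fact p.Prime] [CharP F p] (h11 : 11 ≤ p) : (2 : F) ≠ 0 := by
  intro h
  have h3 : ((2 : ℕ) : F) = 0 := by exact_mod_cast h
  rw [CharP.cast_eq_zero_iff F p] at h3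
  have := Nat.le_of_dvd (by norm_num) h3
  omega

theorem simple_of_good {ι : Type} [Fintype ι] [DecidableEq ι] {Q : QuadraticForm F (ι → F)} (hG : Good Q) :
    IsSimpleGroup (Cfsg.POmega F ⇑Q) := by
  have := good_isSimpleGroup hG
  exact (pe hG).isSimpleGroup

/-- **`PΩ_{2m+1}(q)`** -/
theorem row_odd_aux [Fintype F] [hp : Fact p.Prime] [CharP F p] (h11 : 11 ≤ p) (hm : 3 ≤ m) :
    ∃ n, 4 * (p - 1) < n ^ 2 ∧ TCls p n (Cfsg.POmega F (Cfsg.quadFormOdd m F)) := by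
  have h2 := two_ne (F := F) h11
  rw [← coe_oddForm]
  have hG : Good (oddForm m F) := by
    apply good_of_finite (nondeg_oddForm m F h2)
    rw [Module.finrank_fintype_fun_eq_card, Fintype.card_sum, Fintype.card_sum, Fintype.card_fin,
      Fintype.card_unit]
    omega
  have hs := simple_of_good hG
  have hp0 : ((embOdd m F).ngt ⟨1, -1 ^ 2, rfl⟩).c ≠ 0 := by
    change (1 : F)⁻¹ * (-1 ^ 2) ≠ 0
    simp
  refine row_orth (wodd m F) h11 hG (by simp; omega) (fun α => pt_of_no_four hG (by simp; omega) (fun h => by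
    simp at h; omega) α) hm ?_
  exact sylow_C (wodd m F) hG hm hp0 (AmbT.of_amb (amb_O_of_two _ h2) p)

/-- **`PΩ⁻_{2m+2}(q)`** -/
theorem row_minus_aux [Fintype F] [hp : Fact p.Prime] [CharP F p] (h11 : 11 ≤ p) (hm : 3 ≤ m) {a b : F}
    (hab : ∀ z₁ z₂ : F, z₁ ^ 2 + a * z₁ * z₂ + b * z₂ ^ 2 = 0 → z₁ = 0 ∧ z₂ = 0) :
    ∃ n, 4 * (p - 1) < n ^ 2 ∧ TCls p n (Cfsg.POmega F (Cfsg.quadFormMinus m F a b)) := by
  have h2 := two_ne (F := F) h11
  rw [← coe_minusForm]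
  have hG : Good (minusForm m F a b) := by
    apply good_of_finite (nondeg_minusForm m F a b hab)
    rw [Module.finrank_fintype_fun_eq_card, Fintype.card_sum, Fintype.card_sum, Fintype.card_fin,
      Fintype.card_fin]
    omega
  have hs := simple_of_good hG
  have hp0 : ((embMinus m F a b hab).ngt ⟨(1, 0), -StdData.nf a b (1, 0), rfl⟩).c ≠ 0 := by
    change (1 : F)⁻¹ * (-StdData.nf a b (1, 0)) ≠ 0
    simp [StdData.nf]
  refine row_orth (wminus m F a b hab) h11 hG (by simp; omega) (fun α => pt_of_no_four hG (by simp; omega)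
    (fun h W hW => ?_) α) hm ?_
  · have e1 : QuadForms.minusForm m F a b = minusForm m F a b :=
      DFunLike.coe_injective ((QuadForms.coe_minusForm m a b).trans (coe_minusForm m F a b).symm)
    have h1 := finrank_le_of_TS_minus m a b hab (W := W) (by rwa [e1])
    simp at h
    omega
  · exact sylow_C (wminus m F a b hab) hG hm hp0 (AmbT.of_amb (amb_O_of_two _ h2) p)

/-- **`PΩ⁺_{2m}(q)`**, `m ≥ 5` -/
theorem row_plus_aux [Fintype F] [hp : Fact p.Prime] [CharP F p] (h11 : 11 ≤ p) (hm : 5 ≤ m) :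
    ∃ n, 4 * (p - 1) < n ^ 2 ∧ TCls p n (Cfsg.POmega F (Cfsg.quadFormPlus m F)) := by
  obtain ⟨m, rfl⟩ : ∃ k, m = k + 2 := ⟨m - 2, by omega⟩
  rw [← coe_plusForm]
  have hG : Good (plusForm (m + 2) F) := by
    apply good_of_finite (nondeg_plusForm (m + 2) F)
    rw [Module.finrank_fintype_fun_eq_card, Fintype.card_sum, Fintype.card_fin]
    omega
  have hs := simple_of_good hG
  refine row_orth (wplus (m + 2) F) h11 hG (by simp; omega) (fun α => pt_of_no_four hG (by simp; omega) (fun h => by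
    simp at h; omega) α) (by omega) ?_
  exact sylow_D (wplus (m + 2) F) hG (amb_plus _) (adm_plus _)

end rows

section final

open Cfsg.Agent.H563.XZ.OwnSpRow

variable {S : Type u} [Group S] [Finite S] {p : ℕ} [hp : Fact p.Prime]

theorem row_odd (h11 : 11 ≤ p) (h : IsPOmegaOddChar p S) : ∃ n, 4 * (p - 1) < n ^ 2 ∧ TCls p n S := by
  obtain ⟨F, _, _, _, m, hm, -, ⟨e⟩⟩ := h
  obtain ⟨n, h1, h2⟩ := row_odd_aux (F := F) h11 hm
  exact ⟨n, h1, tcls_congr e.symm h2⟩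

theorem row_minus (h11 : 11 ≤ p) (h : IsPOmegaMinusChar p S) : ∃ n, 4 * (p - 1) < n ^ 2 ∧ TCls p n S := by
  obtain ⟨F, _, _, _, m, a, b, hm, hab, ⟨e⟩⟩ := h
  obtain ⟨n, h1, h2⟩ := row_minus_aux (F := F) (m := m - 1) h11 (by omega) hab
  exact ⟨n, h1, tcls_congr e.symm h2⟩

end final

end Cfsg.Agent.H563.XZ.OwnOmRow
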