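import Cfsg.Agent.Mrg.Omega.ML.Ex.Typ.List

/-!
# S4791 + S4927, own characteristic: the torus of a root group datum normalizes a Sylow `p`-subgroup (helper563)

* `exists_sylow_of_split` : the subgroup `U` of a split (B, N)-pair is a Sylow subgroup;
* `torus_of_rgd` : the elements of the torus have order prime to `p` and normalize the same Sylow subgroup;
* `Ev`, `ev_semi`, `spec_eq` : eigenvalues.
-/

set_option autoImplicit false
set_option linter.unusedSectionVars false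

namespace Cfsg.Agent.H563.XZ.OwnTor

open CoxeterSystem Cfsg.Agent.ChevalleyStructure.CoxeterGeom Cfsg.Agent.Tits.Roots Cfsg.Agent.Tits.Core
  Cfsg.Agent.Tits.RootComb Cfsg.Agent.Nodes.Comb Cfsg.Agent.Nodes.Reps Cfsg.Agent.Nodes.BNOf Cfsg.Agent.FixBN

section split

variable {p : ℕ} [hp : Fact p.Prime] {S : Type*} [Group S] [Finite S]

theorem exists_sylow_of_split {P : Cfsg.BNPair S} {U : Subgroup S} (hs : Split P p U) :
    ∃ Q : Sylow p S, (Q : Subgroup S) = U := by
  obtain ⟨m, hm, hm'⟩ := hs.tor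
  have hi : ¬ p ∣ U.index := by
    intro hd
    obtain ⟨k, hk⟩ := hs.isP.exists_card_eq
    have h1 : p ^ (k + 1) ∣ Nat.card S := by
      rw [← U.card_mul_index, hk, pow_succ]
      exact mul_dvd_mul_left _ hd
    have h2 := Sylow.prime_dvd_card_quotient_normalizer h1 hk
    have hnor : (Subgroup.comap (Subgroup.normalizer (U : Set S)).subtype U).Normal :=
      inferInstanceAs (U.subgroupOf (Subgroup.normalizer (U : Set S))).Normal
    obtain ⟨x, hx⟩ := exists_prime_orderOf_dvd_card' (G := Subgroup.normalizer (U : Set S) ⧸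
      Subgroup.comap (Subgroup.normalizer (U : Set S)).subtype U) p h2
    obtain ⟨⟨y, hy⟩, rfl⟩ := QuotientGroup.mk_surjective x
    have hyB : y ∈ P.B := by rw [← hs.normalizer_eq]; exact hy
    obtain ⟨u, hu, hun⟩ := hs.cover y hyB
    have h4 : u⁻¹ * y ∈ P.B := mul_mem (inv_mem (hs.le hu)) hyB
    have h5 : (u⁻¹ * y) ^ m = 1 := hm' _ h4 hun
    have h6 : (QuotientGroup.mk (⟨y, hy⟩ : Subgroup.normalizer (U : Set S)) : Subgroup.normalizer (U : Set S) ⧸
        Subgroup.comap (Subgroup.normalizer (U : Set S)).subtype U) ^ m = 1 := by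
      have h7 : u⁻¹ * y ∈ Subgroup.normalizer (U : Set S) := by rw [hs.normalizer_eq]; exact h4
      have h8 : (QuotientGroup.mk (⟨y, hy⟩ : Subgroup.normalizer (U : Set S)) : Subgroup.normalizer (U : Set S) ⧸
          Subgroup.comap (Subgroup.normalizer (U : Set S)).subtype U) = QuotientGroup.mk ⟨u⁻¹ * y, h7⟩ := by
        rw [QuotientGroup.eq]
        show y⁻¹ * (u⁻¹ * y) ∈ U
        have h9 := hs.norm y⁻¹ (inv_mem hyB) _ (inv_mem hu)
        rw [inv_inv] at h9
        rwa [← mul_assoc]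
      rw [h8, ← QuotientGroup.mk_pow]
      have h10 : (⟨u⁻¹ * y, h7⟩ : Subgroup.normalizer (U : Set S)) ^ m = 1 := Subtype.ext h5
      rw [h10]
      rfl
    have h7 := orderOf_dvd_of_pow_eq_one h6
    rw [hx] at h7
    exact hm h7
  exact ⟨hs.isP.toSylow hi, rfl⟩

end split

section rgd

variable {I W Y : Type*} [Fintype I] [DecidableEq I] [Group W] [Group Y] {M : CoxeterMatrix I}
  {cs : CoxeterSystem M W} {A : I → I → ℤ} {h : IsCartan M A} {p : ℕ} {T : Subgroup Y} {n : I → Y}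
  {X : (I → ℤ) → Subgroup Y}

/-- the torus normalizes a Sylow subgroup -/
theorem torus_of_rgd [Finite W] [Finite Y] [Nonempty I] [IsSimpleGroup Y] (hp : Fact p.Prime) (R : RGD cs h p T n X)
    (hX : Nodes.RGDLib.G1 cs h X = ⊤) :
    ∃ Q : Sylow p Y, ∀ t ∈ T, ¬ p ∣ orderOf t ∧ ∀ u ∈ (Q : Subgroup Y), t * u * t⁻¹ ∈ (Q : Subgroup Y) := by
  have hgen : RGD.B cs h T X ⊔ NN cs R.nsys = ⊤ := by
    rw [eq_top_iff, ← hX]
    exact Nodes.RGDLib.rgd_G1_le R
  obtain ⟨i⟩ := (inferInstance : Nonempty I)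
  have hne : (R.bnPair hgen).S.Nonempty := ⟨n i, i, rfl⟩
  have hs := SplitRGD.split_of_rgd hp.out R hgen (Cfsg.Agent.Tits.OfBN.normalCore_eq_bot (R.bnPair hgen) hne)
  obtain ⟨Q, hQ⟩ := exists_sylow_of_split hs
  refine ⟨Q, fun t ht => ⟨fun hd => ?_, fun u hu => ?_⟩⟩
  · have h1 : orderOf t ∣ Nat.card T := by
      have := orderOf_dvd_natCard (⟨t, ht⟩ : T)
      rwa [Subgroup.orderOf_mk] at this
    exact hp.out.one_lt.ne' (Nat.Coprime.eq_one_of_dvd R.tcop.symm (hd.trans h1))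
  · rw [hQ] at hu ⊢
    exact hs.norm t (RGD.T_le_B ht) u hu

end rgd

/-! ### Eigenvalues -/

section ev

open Matrix

variable {ι : Type*} [Fintype ι] [DecidableEq ι] {F : Type*} [Field F]

/-- `x` is an eigenvalue of the matrix `A` -/
def Ev (A : Matrix ι ι F) (x : F) : Prop := ∃ v : ι → F, v ≠ 0 ∧ A *ᵥ v = x • v

theorem ev_diagonal {d : ι → F} {x : F} : Ev (Matrix.diagonal d) x ↔ ∃ i, d i = x := by
  constructor
  · rintro ⟨v, hv, e⟩
    obtain ⟨i, hi⟩ : ∃ i, v i ≠ 0 := by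
      by_contra hcon
      push Not at hcon
      exact hv (funext hcon)
    refine ⟨i, ?_⟩
    have h1 := congrFun e i
    rw [Matrix.mulVec_diagonal, Pi.smul_apply, smul_eq_mul] at h1
    exact mul_right_cancel₀ hi h1
  · rintro ⟨i, rfl⟩
    refine ⟨Pi.single i 1, fun h => ?_, ?_⟩
    · have h1 := congrFun h i
      simp at h1
    · funext j
      rw [Matrix.mulVec_diagonal, Pi.smul_apply, smul_eq_mul]
      by_cases hj : j = i
      · subst hj; rfl
      · simp [Pi.single_eq_of_ne hj]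

theorem ev_smul {A : Matrix ι ι F} {l x : F} (hl : l ≠ 0) : Ev (l • A) (l * x) ↔ Ev A x := by
  constructor
  · rintro ⟨v, hv, e⟩
    refine ⟨v, hv, ?_⟩
    rw [Matrix.smul_mulVec, mul_smul] at e
    exact smul_right_injective _ hl e
  · rintro ⟨v, hv, e⟩
    refine ⟨v, hv, ?_⟩
    rw [Matrix.smul_mulVec, mul_smul, e]

theorem ev_semi {τ : F ≃+* F} {T : (ι → F) ≃+ (ι → F)} (hT : ∀ (c : F) v, T (c • v) = τ c • T v)
    {A B : Matrix ι ι F} (h : ∀ v, B *ᵥ T v = T (A *ᵥ v)) {x : F} : Ev B (τ x) ↔ Ev A x := by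
  constructor
  · rintro ⟨v, hv, e⟩
    obtain ⟨w, rfl⟩ := T.surjective v
    refine ⟨w, fun h0 => hv (by rw [h0, map_zero]), ?_⟩
    rw [h, ← hT] at e
    exact T.injective e
  · rintro ⟨v, hv, e⟩
    refine ⟨T v, fun h0 => hv ?_, ?_⟩
    · apply T.injective
      rw [h0, map_zero]
    · rw [h, e, hT]

/-- two spectra `{a, a⁻¹, 1}` and `{b, b⁻¹, 1}` which differ by a scalar -/
theorem spec_eq {a b l : F} (ha : a ≠ 0) (hb : b ≠ 0) (hl : l ≠ 0)
    (h : ∀ x, (x = a ∨ x = a⁻¹ ∨ x = 1) ↔ (l * x = b ∨ l * x = b⁻¹ ∨ l * x = 1)) : b = a ∨ b * a = 1 := by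
  have hone : l = 1 → b = a ∨ b * a = 1 := by
    rintro rfl
    rcases (h a).1 (Or.inl rfl) with h1 | h1 | h1
    · left; rw [← h1, one_mul]
    · right; rw [one_mul] at h1; rw [h1, mul_inv_cancel₀ hb]
    · rw [one_mul] at h1
      subst h1
      rcases (h b).2 (Or.inl (one_mul b)) with h2 | h2 | h2
      · exact Or.inl h2
      · left; rw [h2, inv_one]
      · exact Or.inl h2
  rcases (h 1).1 (Or.inr (Or.inr rfl)) with h1 | h1 | h1
  · rw [mul_one] at h1
    subst h1
    rcases (h l⁻¹).2 (Or.inr (Or.inr (mul_inv_cancel₀ hl))) with h2 | h2 | h2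
    · right; rw [← h2, mul_inv_cancel₀ hl]
    · left; exact inv_injective h2
    · exact hone (by rw [← inv_inv l, h2, inv_one])
  · rw [mul_one] at h1
    subst h1
    rcases (h b).2 (Or.inr (Or.inr (inv_mul_cancel₀ hb))) with h2 | h2 | h2
    · exact Or.inl h2
    · right; rw [h2, inv_mul_cancel₀ ha]
    · exact hone (by rw [h2, inv_one])
  · rw [mul_one] at h1
    exact hone h1

/-- a spectrum with four different elements -/
theorem spec_ne {a b c d e l : F} (hab : a ≠ b) (hac : a ≠ c) (had : a ≠ d) (hbc : b ≠ c) (hbd : b ≠ d) (hcd : c ≠ d)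
    (hl : l ≠ 0) (h : ∀ x, (x = a ∨ x = b ∨ x = c ∨ x = d) → (l * x = e ∨ l * x = e⁻¹ ∨ l * x = 1)) : False := by
  have key : ∀ x y z : F, x ≠ y → l * x = z → l * y = z → False := fun x y z hxy h1 h2 =>
    hxy (mul_left_cancel₀ hl (h1.trans h2.symm))
  have ha := h a (Or.inl rfl)
  have hb := h b (Or.inr (Or.inl rfl))
  have hc := h c (Or.inr (Or.inr (Or.inl rfl)))
  have hd := h d (Or.inr (Or.inr (Or.inr rfl)))
  rcases ha with ha | ha | ha <;> rcases hb with hb | hb | hb <;> rcases hc with hc | hc | hc <;>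
    rcases hd with hd | hd | hd <;>
    first
    | exact key _ _ _ hab ha hb
    | exact key _ _ _ hac ha hc
    | exact key _ _ _ had ha hd
    | exact key _ _ _ hbc hb hc
    | exact key _ _ _ hbd hb hd
    | exact key _ _ _ hcd hc hd

end ev

end Cfsg.Agent.H563.XZ.OwnTor
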