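import Cfsg.Agent.H563.XZ.Idem
import Cfsg.Agent.H674.XZ.Base
import Cfsg.Agent.Blocks.Knorr

/-!
# S4791, `p = 2` and `p = 5`: the Sylow subgroup is cyclic in the case of equality (helper563)

* `latX` : the lattice inequalities for the members of `X0`.
* `four_le` : `4 ≤ |X0|` for `p = 5`.
* `five_strict` : if the Sylow `5`-subgroups are not cyclic, there are at least `5` almost `5`-rational characters of degree prime
  to `5`.
* `two_strict` : if the Sylow `2`-subgroups are not cyclic, there are at least `3` almost `2`-rational characters of odd degree.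
-/

set_option autoImplicit false

open scoped ComplexConjugate

namespace Cfsg.Agent.H563.XZ

open Cfsg Cfsg.Agent.Characters Cfsg.Agent.Characters.Core Cfsg.Agent.H674.XZ Cfsg.Agent.H703.Lat
open Cfsg.Agent.Blocks Cfsg.Agent.Blocks.Basic Cfsg.Agent.Blocks.LocalRing

universe u

variable {p : ℕ} [hp : Fact p.Prime] {M : Ideal AlgInt} {G : Type u} [Group G] [Finite G]

omit hp in
theorem alm_pw_of {u : (ZMod (Nat.card G))ˣ} {χ : IrrCharacter G} (h : Alm p (χ : G → ℂ)) : Alm p (pw u χ : G → ℂ) := by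
  obtain ⟨n, h1, h2, h3⟩ := h
  exact ⟨n, h1, h2, fun g => h3 (g ^ ex u)⟩

omit hp in
theorem alm_pw (u : (ZMod (Nat.card G))ˣ) (χ : IrrCharacter G) : Alm p (pw u χ : G → ℂ) ↔ Alm p (χ : G → ℂ) := by
  refine ⟨fun h => ?_, alm_pw_of⟩
  let := gact G
  have h2 : pw u⁻¹ (pw u χ) = χ := inv_smul_smul u χ
  rw [← h2]
  exact alm_pw_of h

omit hp in
theorem mem0_pw (u : (ZMod (Nat.card G))ˣ) (χ : IrrCharacter G) : Mem0 p M (pw u χ) ↔ Mem0 p M χ := by
  unfold Mem0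
  rw [pw_mem_iff, charDegree_pw, alm_pw]

theorem powIrr_eq_pw {m : ℕ} (hm : m.Coprime (Nat.card G)) (χ : IrrCharacter G) :
    powIrr hm χ = pw (ZMod.unitOfCoprime m hm) χ := by
  refine Subtype.ext (funext fun g => ?_)
  rw [powIrr_apply, pw_apply]
  refine congrArg (χ : G → ℂ) (pow_congr_card g ?_)
  rw [← ZMod.natCast_eq_natCast_iff, ex_cast]
  rfl

open Classical in
/-- the least absolute residue of `x χ(1)`, on the members of `X0` -/
noncomputable def cX (p : ℕ) (M : Ideal AlgInt) (x : ℕ) (χ : IrrCharacter G) : ℤ := if Mem0 p M χ then cx p x χ else 0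

omit hp in
theorem inv_cX (x : ℕ) : Inv (cX (G := G) p M x) := by
  intro m hm χ
  have h1 : Mem0 p M (powIrr hm χ) ↔ Mem0 p M χ := by rw [powIrr_eq_pw, mem0_pw]
  unfold cX
  by_cases h : Mem0 p M χ
  · rw [if_pos h, if_pos (h1.2 h), inv_cx p x m hm χ]
  · rw [if_neg h, if_neg fun h2 => h (h1.1 h2)]

theorem exists_F_cX (hM : IsPModular p M) (hpG : p ∣ Nat.card G) (x : ℕ) :
    ∃ F : G → ℤ, ∀ g, ∑ χ ∈ B0 M G, (cX p M x χ : ℂ) * (χ : G → ℂ) g = (p : ℂ) * F g := by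
  refine exists_FX hM hpG (inv_cX x) x (fun χ h => if_neg h) fun χ h => ?_
  unfold cX
  rw [if_pos h]
  have h1 := dvd_cx (p := p) x χ
  rwa [pow_one] at h1

theorem mem0_one (hM : IsPModular p M) : Mem0 p M (one G) := by
  refine ⟨mem_B0.1 (one_mem_B0 hM), ?_, alm_of_rat fun g => ⟨1, by simp [one]⟩⟩
  rw [charDegree_one]
  exact hp.out.one_lt.ne' ∘ Nat.dvd_one.1

theorem cX_one (hM : IsPModular p M) {x : ℕ} (hx : x ≤ p / 2) : cX p M x (one G) = x := by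
  unfold cX
  rw [if_pos (mem0_one hM), cx_one hx]

theorem latX (hM : IsPModular p M) (hpG : p ∣ Nat.card G) {x : ℕ} (hx : x ≤ p / 2) :
    (p : ℤ) * x ≤ ∑ χ ∈ B0 M G, cX p M x χ ^ 2 := by
  obtain ⟨F, hF⟩ := exists_F_cX (G := G) hM hpG x
  have h1 := lattice hp.1.ne_zero (one_mem_B0 hM) hF
  have h2 : cX p M x (⟨fun _ => 1, isIrrCharacter_one⟩ : IrrCharacter G) = x := cX_one hM hx
  rw [h2, abs_of_nonneg (Int.natCast_nonneg x)] at h1
  exact h1

/-- the members of `X0` as a finset -/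
noncomputable def XF (p : ℕ) (M : Ideal AlgInt) (G : Type u) [Group G] [Finite G] : Finset (IrrCharacter G) :=
  @Finset.filter _ (fun χ => Mem0 p M χ) (Classical.decPred _) (B0 M G)

omit hp in
theorem mem_XF {χ : IrrCharacter G} : χ ∈ XF p M G ↔ Mem0 p M χ := by
  classical
  unfold XF
  rw [Finset.mem_filter, mem_B0]
  exact ⟨fun h => h.2, fun h => ⟨h.1, h⟩⟩

omit hp in
theorem card_XF : (XF p M G).card = x0 p M G := by
  unfold x0
  have h : Nat.card {χ : IrrCharacter G // χ ∈ XF p M G} = (XF p M G).card := by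
    rw [Nat.card_eq_fintype_card, Fintype.card_coe]
  rw [← h]
  exact Nat.card_congr (Equiv.subtypeEquivRight fun χ => mem_XF)

omit hp in
theorem sum_XF (x : ℕ) : ∑ χ ∈ B0 M G, cX p M x χ ^ 2 = ∑ χ ∈ XF p M G, cx p x χ ^ 2 := by
  classical
  unfold XF
  rw [Finset.sum_filter]
  refine Finset.sum_congr rfl fun χ _ => ?_
  unfold cX
  split_ifs <;> simp

theorem dvd_sum_XF (hM : IsPModular p M) (hpG : p ∣ Nat.card G) : (p : ℤ) ∣ ∑ χ ∈ XF p M G, cx p 1 χ ^ 2 := by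
  obtain ⟨F, hF⟩ := exists_F_cX (G := G) hM hpG 1
  have h1 := F_one hF
  rw [← sum_XF]
  have h2 : ∑ χ ∈ B0 M G, cX p M 1 χ ^ 2 = (∑ χ ∈ B0 M G, cX p M 1 χ * charDegree (χ : G → ℂ)) +
      ∑ χ ∈ B0 M G, cX p M 1 χ * (cX p M 1 χ - charDegree (χ : G → ℂ)) := by
    rw [← Finset.sum_add_distrib]
    exact Finset.sum_congr rfl fun χ _ => by ring
  rw [h2, h1]
  refine dvd_add (Dvd.intro _ rfl) (Finset.dvd_sum fun χ _ => ?_)
  by_cases h : Mem0 p M χ
  · refine Dvd.dvd.mul_left ?_ _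
    unfold cX
    rw [if_pos h]
    have h1 := dvd_cx (p := p) 1 χ
    rwa [pow_one, Nat.cast_one, one_mul] at h1
  · unfold cX
    rw [if_neg h, zero_mul]
    exact dvd_zero _

/-- equality of the two sets of characters -/
theorem mem0_of_eq (h : xx p G ≤ x0 p M G) {χ : IrrCharacter G} (h1 : ¬ p ∣ charDegree (χ : G → ℂ))
    (h2 : Alm p (χ : G → ℂ)) : Mem0 p M χ := by
  have hfin : Finite (IrrCharacter G) := finite_irr
  let f : {χ : IrrCharacter G // Mem0 p M χ} → {χ : IrrCharacter G // ¬ p ∣ charDegree (χ : G → ℂ) ∧ Alm p (χ : G → ℂ)} :=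
    fun χ => ⟨χ.1, χ.2.2⟩
  have hf : Function.Injective f := fun a b hab =>
    Subtype.ext (congrArg (fun z : {χ : IrrCharacter G // ¬ p ∣ charDegree (χ : G → ℂ) ∧ Alm p (χ : G → ℂ)} => z.1) hab)
  have hs : Function.Surjective f := by
    have h3 : Nat.card {χ : IrrCharacter G // Mem0 p M χ} =
        Nat.card {χ : IrrCharacter G // ¬ p ∣ charDegree (χ : G → ℂ) ∧ Alm p (χ : G → ℂ)} :=
      le_antisymm (Nat.card_le_card_of_injective f hf) h
    exact ((Nat.bijective_iff_injective_and_card f).2 ⟨hf, h3⟩).2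
  obtain ⟨⟨ψ, hψ⟩, h3⟩ := hs ⟨χ, h1, h2⟩
  have h4 : ψ = χ := congrArg (fun z : {χ : IrrCharacter G // ¬ p ∣ charDegree (χ : G → ℂ) ∧ Alm p (χ : G → ℂ)} => z.1) h3
  exact h4 ▸ hψ

/-- equality in the lattice inequality and all the characters in the principal block: `P` is cyclic -/
theorem cyclic_of_latX (hM : IsPModular p M) (hpG : p ∣ Nat.card G) (P : Sylow p G) (h : xx p G ≤ x0 p M G) {x : ℕ}
    (hx0 : 0 < x) (hx : x ≤ p / 2) (heq : ∑ χ ∈ XF p M G, cx p x χ ^ 2 = (p : ℤ) * x) : IsCyclic (P : Subgroup G) := by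
  classical
  have hfin : Finite (IrrCharacter G) := finite_irr
  let : Fintype (IrrCharacter G) := Fintype.ofFinite _
  obtain ⟨F, hF⟩ := exists_F_cX (G := G) hM hpG x
  have h2 : cX p M x (⟨fun _ => 1, isIrrCharacter_one⟩ : IrrCharacter G) = x := cX_one hM hx
  have hFF := lattice_eq hp.1.ne_zero (one_mem_B0 hM) hF (by rw [sum_XF, heq, h2])
  refine cyclic_of_idem hpG P (c := cX p M x) (m := x) ?_ (fun χ h3 => if_neg fun h4 => h3 h4.2) (fun χ h3 h4 => ?_)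
    (F := F) (fun g => ?_) hFF
  · intro h3
    have h4 : p ∣ x := by exact_mod_cast h3
    have h5 := Nat.le_of_dvd hx0 h4
    have h6 := Nat.div_lt_self hp.out.pos (le_refl 2)
    omega
  · unfold cX
    rw [if_pos (mem0_of_eq h h3 h4)]
    have h1 := dvd_cx (p := p) x χ
    rwa [pow_one] at h1
  · rw [← hF g]
    symm
    refine Finset.sum_subset (Finset.subset_univ _) fun χ _ h3 => ?_
    have h4 : ¬ Mem0 p M χ := fun h5 => h3 (mem_B0.2 h5.1)
    unfold cX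
    rw [if_neg h4, Int.cast_zero, zero_mul]

/-! ### `p = 5` -/

instance fact_five : Fact (Nat.Prime 5) := ⟨by norm_num⟩

theorem five_aux : ∀ d : ZMod 5, d ≠ 0 → ((d * ((1 : ℕ) : ZMod 5)).valMinAbs ^ 2 = 1 ∧ (d * ((2 : ℕ) : ZMod 5)).valMinAbs ^ 2 = 4) ∨
    ((d * ((1 : ℕ) : ZMod 5)).valMinAbs ^ 2 = 4 ∧ (d * ((2 : ℕ) : ZMod 5)).valMinAbs ^ 2 = 1) := by
  decide

theorem five_sq {χ : IrrCharacter G} (h : ¬ 5 ∣ charDegree (χ : G → ℂ)) :
    (cx 5 1 χ ^ 2 = 1 ∧ cx 5 2 χ ^ 2 = 4) ∨ (cx 5 1 χ ^ 2 = 4 ∧ cx 5 2 χ ^ 2 = 1) :=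
  five_aux _ fun h1 => h ((ZMod.natCast_eq_zero_iff _ _).1 h1)

theorem five_sums (hM : IsPModular 5 M) (hpG : 5 ∣ Nat.card G) :
    ∃ s t : ℤ, ∑ χ ∈ XF 5 M G, cx 5 1 χ ^ 2 = 5 * s ∧ 1 ≤ s ∧ ∑ χ ∈ XF 5 M G, cx 5 2 χ ^ 2 = 5 * (x0 5 M G - s) ∧
      5 * 2 ≤ 5 * ((x0 5 M G : ℤ) - s) ∧ 5 * s = x0 5 M G + 3 * t := by
  have h1 := latX (G := G) hM hpG (x := 1) (by norm_num)
  have h2 := latX (G := G) hM hpG (x := 2) (by norm_num)
  rw [sum_XF] at h1 h2
  obtain ⟨s, hs⟩ := dvd_sum_XF (G := G) hM hpG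
  have h3 : ∑ χ ∈ XF 5 M G, cx 5 1 χ ^ 2 + ∑ χ ∈ XF 5 M G, cx 5 2 χ ^ 2 = 5 * (x0 5 M G : ℤ) := by
    rw [← Finset.sum_add_distrib, ← card_XF, mul_comm, ← nsmul_eq_mul, ← Finset.sum_const]
    refine Finset.sum_congr rfl fun χ hχ => ?_
    rcases five_sq (mem_XF.1 hχ).2.1 with ⟨h4, h5⟩ | ⟨h4, h5⟩ <;> rw [h4, h5] <;> norm_num
  have h4 : (3 : ℤ) ∣ ∑ χ ∈ XF 5 M G, cx 5 1 χ ^ 2 - x0 5 M G := by
    have h5 : (x0 5 M G : ℤ) = ∑ χ ∈ XF 5 M G, (1 : ℤ) := by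
      rw [Finset.sum_const, card_XF]
      simp
    rw [h5, ← Finset.sum_sub_distrib]
    refine Finset.dvd_sum fun χ hχ => ?_
    rcases five_sq (mem_XF.1 hχ).2.1 with ⟨h4, -⟩ | ⟨h4, -⟩ <;> rw [h4] <;> norm_num
  obtain ⟨t, ht⟩ := h4
  push_cast at hs h1 h2 ht
  exact ⟨s, t, hs, by omega, by omega, by omega, by omega⟩

/-- **`p = 5`: at least four members of `X0`.** -/
theorem four_le (hM : IsPModular 5 M) (hpG : 5 ∣ Nat.card G) : 4 ≤ x0 5 M G := by
  obtain ⟨s, t, h1, h2, h3, h4, h5⟩ := five_sums (G := G) hM hpG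
  by_contra h
  have h6 : s = 1 := by omega
  omega

/-- **`p = 5`: the case `|X| = 4`.** -/
theorem five_cyclic (hM : IsPModular 5 M) (hpG : 5 ∣ Nat.card G) (P : Sylow 5 G) (h : xx 5 G ≤ 4) :
    IsCyclic (P : Subgroup G) := by
  have h0 := four_le (G := G) hM hpG
  have h1 := x0_le_xx (p := 5) (M := M) (G := G)
  obtain ⟨s, t, h2, h3, h4, h5, h6⟩ := five_sums (G := G) hM hpG
  have h7 : x0 5 M G = 4 := by omega
  refine cyclic_of_latX hM hpG P (h.trans h0) (x := 2) (by norm_num) (by norm_num) ?_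
  rw [h4]
  push_cast
  omega

theorem five_strict (hpG : 5 ∣ Nat.card G) (P : Sylow 5 G) (hP : ¬ IsCyclic (P : Subgroup G)) : 5 ≤ xx 5 G := by
  obtain ⟨M, hM⟩ := Cfsg.Agent.Blocks.Knorr.exists_isPModular 5
  by_contra h
  exact hP (five_cyclic hM hpG P (by omega))

/-! ### `p = 2`, `p = 3` -/

theorem two_aux : ∀ d : ZMod 2, d ≠ 0 → (d * ((1 : ℕ) : ZMod 2)).valMinAbs ^ 2 = 1 := by
  decide

theorem three_aux : ∀ d : ZMod 3, d ≠ 0 → (d * ((1 : ℕ) : ZMod 3)).valMinAbs ^ 2 = 1 := by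
  decide

theorem two_sum_eq : ∑ χ ∈ XF 2 M G, cx 2 1 χ ^ 2 = (x0 2 M G : ℤ) := by
  have h5 : (x0 2 M G : ℤ) = ∑ χ ∈ XF 2 M G, (1 : ℤ) := by
    rw [Finset.sum_const, card_XF]
    simp
  rw [h5]
  exact Finset.sum_congr rfl fun χ hχ => two_aux _ fun h1 => (mem_XF.1 hχ).2.1 ((ZMod.natCast_eq_zero_iff _ _).1 h1)

theorem three_sum_eq : ∑ χ ∈ XF 3 M G, cx 3 1 χ ^ 2 = (x0 3 M G : ℤ) := by
  have h5 : (x0 3 M G : ℤ) = ∑ χ ∈ XF 3 M G, (1 : ℤ) := by
    rw [Finset.sum_const, card_XF]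
    simp
  rw [h5]
  exact Finset.sum_congr rfl fun χ hχ => three_aux _ fun h1 => (mem_XF.1 hχ).2.1 ((ZMod.natCast_eq_zero_iff _ _).1 h1)

/-- **`p = 2`: at least two members of `X0`.** -/
theorem two_le_x0 (hM : IsPModular 2 M) (hpG : 2 ∣ Nat.card G) : 2 ≤ x0 2 M G := by
  have h1 := latX (G := G) hM hpG (x := 1) (by norm_num)
  rw [sum_XF, two_sum_eq] at h1
  push_cast at h1
  omega

/-- **`p = 3`: at least three members of `X0`.** -/
theorem three_le_x0 (hM : IsPModular 3 M) (hpG : 3 ∣ Nat.card G) : 3 ≤ x0 3 M G := by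
  have h1 := latX (G := G) hM hpG (x := 1) (by norm_num)
  rw [sum_XF, three_sum_eq] at h1
  push_cast at h1
  omega

theorem two_cyclic (hpG : 2 ∣ Nat.card G) (P : Sylow 2 G) (h : xx 2 G ≤ 2) : IsCyclic (P : Subgroup G) := by
  obtain ⟨M, hM⟩ := Cfsg.Agent.Blocks.Knorr.exists_isPModular 2
  have h0 := two_le_x0 (G := G) hM hpG
  have h1 := x0_le_xx (p := 2) (M := M) (G := G)
  refine cyclic_of_latX hM hpG P (h.trans h0) (x := 1) (by norm_num) (by norm_num) ?_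
  rw [two_sum_eq]
  push_cast
  omega

theorem two_strict (hpG : 2 ∣ Nat.card G) (P : Sylow 2 G) (hP : ¬ IsCyclic (P : Subgroup G)) : 3 ≤ xx 2 G := by
  by_contra h
  exact hP (two_cyclic hpG P (by omega))

/-- **S4791 for `p ≤ 5`, not cyclic.** -/
theorem small_strict (hp5 : p ≤ 5) (hpG : p ∣ Nat.card G) (P : Sylow p G) (hP : ¬ IsCyclic (P : Subgroup G)) :
    4 * (p - 1) < xx p G ^ 2 := by
  have h2 := hp.out.two_le
  have h4 : p ≠ 4 := fun h => by
    rw [h] at hp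
    exact absurd hp.out (by norm_num)
  rcases (show p = 2 ∨ p = 3 ∨ p = 5 by omega) with rfl | rfl | rfl
  · have := two_strict hpG P hP
    nlinarith
  · obtain ⟨M, hM⟩ := Cfsg.Agent.Blocks.Knorr.exists_isPModular 3
    have h0 := three_le_x0 (G := G) hM hpG
    have h1 := x0_le_xx (p := 3) (M := M) (G := G)
    have : 3 ≤ xx 3 G := by omega
    nlinarith
  · have := five_strict hpG P hP
    nlinarith

/-- **S4927 for `p ≤ 5`.** -/
theorem small_x0 (hM : IsPModular p M) (hp5 : p ≤ 5) (hpG : p ∣ Nat.card G) : 4 * (p - 1) ≤ x0 p M G ^ 2 := by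
  have h2 := hp.out.two_le
  have h4 : p ≠ 4 := fun h => by
    rw [h] at hp
    exact absurd hp.out (by norm_num)
  rcases (show p = 2 ∨ p = 3 ∨ p = 5 by omega) with rfl | rfl | rfl
  · have := two_le_x0 (G := G) hM hpG
    nlinarith
  · have := three_le_x0 (G := G) hM hpG
    nlinarith
  · have := four_le (G := G) hM hpG
    nlinarith

end Cfsg.Agent.H563.XZ
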