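import Cfsg.Agent.H563.XZ.Lat
import Cfsg.Agent.S0014
import Cfsg.Agent.Characters.Linear

/-!
# S4791: the case of equality of the lattice lemma forces a cyclic Sylow subgroup (helper563)

`cyclic_of_idem` : `P` a Sylow `p`-subgroup, `c : Irr(G) → ℤ` supported on the almost `p`-rational characters of degree prime to
`p`, `c χ ≡ m χ(1)` modulo `p` on these, `p ∤ m`, and `∑ c(χ) χ = p F` with `F` having the values `0`, `1`. Then `P` is cyclic.
-/

set_option autoImplicit false

open scoped ComplexConjugate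

namespace Cfsg.Agent.H563.XZ

open Cfsg Cfsg.Agent.Characters Cfsg.Agent.Characters.Core Cfsg.Agent.H674.XZ Cfsg.Agent.H703.Lat
open Cfsg.Agent.Blocks Cfsg.Agent.Blocks.Basic Cfsg.Agent.Blocks.LocalRing

universe u

variable {p : ℕ} [hp : Fact p.Prime]

section lin

variable {P : Type*} [Group P] [Finite P]

omit [Finite P] in
/-- a linear character with given kernel of index `p` -/
theorem exists_lin {K : Subgroup P} [K.Normal] (hK : K.index = p) :
    ∃ l : P →* ℂˣ, l.ker = K ∧ ∀ x, (l x : ℂ) ^ p = 1 := by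
  have hcard : Nat.card (P ⧸ K) = p := hK
  have : IsCyclic (P ⧸ K) := isCyclic_of_prime_card hcard
  have : NeZero p := ⟨hp.out.ne_zero⟩
  have hcard' : Nat.card (P ⧸ K) = Nat.card (rootsOfUnity p ℂ) := by rw [Complex.card_rootsOfUnity, hcard]
  let e : P ⧸ K ≃* rootsOfUnity p ℂ := mulEquivOfCyclicCardEq hcard'
  let l : P →* ℂˣ := ((rootsOfUnity p ℂ).subtype.comp e.toMonoidHom).comp (QuotientGroup.mk' K)
  have hl : ∀ g, l g = (e (QuotientGroup.mk g) : ℂˣ) := fun g => rfl
  refine ⟨l, ?_, fun x => ?_⟩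
  · ext g
    rw [MonoidHom.mem_ker, hl, show ((1 : ℂˣ)) = ((1 : rootsOfUnity p ℂ) : ℂˣ) from rfl, Subtype.coe_inj,
      map_eq_one_iff e e.injective, QuotientGroup.eq_one_iff]
  · have h1 := (e (QuotientGroup.mk x)).2
    rw [mem_rootsOfUnity] at h1
    rw [hl, ← Units.val_pow_eq_pow_val, h1, Units.val_one]

omit hp in
/-- a finite group with at most one maximal subgroup is cyclic -/
theorem isCyclic_of_unique (h : ∀ K L : Subgroup P, IsCoatom K → IsCoatom L → K = L) : IsCyclic P := by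
  rcases subsingleton_or_nontrivial P with _ | _
  · infer_instance
  by_contra hc
  rcases IsCoatomic.eq_top_or_exists_le_coatom (⊥ : Subgroup P) with h1 | ⟨K, hK, -⟩
  · exact bot_ne_top h1
  obtain ⟨x, hx⟩ : ∃ x, x ∉ K := by
    by_contra h1
    push Not at h1
    exact hK.1 (eq_top_iff.2 fun x _ => h1 x)
  rcases IsCoatomic.eq_top_or_exists_le_coatom (Subgroup.zpowers x) with h1 | ⟨L, hL, hxL⟩
  · refine hc ⟨x, fun y => ?_⟩
    have h2 : y ∈ Subgroup.zpowers x := h1 ▸ Subgroup.mem_top y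
    exact h2
  · apply hx
    rw [h K L hK hL]
    exact hxL (Subgroup.mem_zpowers x)

end lin

variable {G : Type u} [Group G] [Finite G]

/-- the multiplicity of a linear character -/
theorem exists_nl (P : Subgroup G) [Fintype P] (l : P →* ℂˣ) : ∃ n : IrrCharacter G → ℤ, ∀ χ : IrrCharacter G,
    (n χ : ℂ) * Nat.card P = ∑ x : P, (χ : G → ℂ) x * conj (l x : ℂ) := by
  have h : ∀ χ : IrrCharacter G, ∃ n : ℤ, (n : ℂ) * Nat.card P = ∑ x : P, (χ : G → ℂ) x * conj (l x : ℂ) := by
    intro χ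
    obtain ⟨n, hn⟩ := classInner_isNat (isCharacter_comp P.subtype (isIrr_isCharacter χ.2)) (Linear.isCharacter_hom l)
    refine ⟨n, ?_⟩
    rw [Core.classInner_def] at hn
    have hc : (Nat.card P : ℂ) ≠ 0 := card_ne_zero_complex
    rw [Int.cast_natCast, ← hn, mul_comm, ← mul_assoc, mul_inv_cancel₀ hc, one_mul]
    rfl
  choose n hn using h
  exact ⟨n, hn⟩

omit hp in
theorem nl_pw {P : Subgroup G} [Fintype P] (hpG : p ∣ Nat.card G) {l : P →* ℂˣ} (hl : ∀ x, (l x : ℂ) ^ p = 1)
    {n : IrrCharacter G → ℤ}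
    (hn : ∀ χ : IrrCharacter G, (n χ : ℂ) * Nat.card P = ∑ x : P, (χ : G → ℂ) x * conj (l x : ℂ))
    {u : (ZMod (Nat.card G))ˣ} (hu : u ∈ JJ p G) (χ : IrrCharacter G) : n (pw u χ) = n χ := by
  have hc : (Nat.card P : ℂ) ≠ 0 := card_ne_zero_complex
  have h1 := hn (pw u χ)
  have hcop : (Nat.card P).Coprime (ex u) := Nat.Coprime.coprime_dvd_left (Subgroup.card_subgroup_dvd_card P) (ex_coprime u).symm
  have h2 : ∑ x : P, (pw u χ : G → ℂ) x * conj (l x : ℂ) = ∑ x : P, (χ : G → ℂ) x * conj (l x : ℂ) := by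
    refine Fintype.sum_equiv (powCoprime hcop) _ _ fun x => ?_
    have h3 : (l (x ^ ex u) : ℂ) = l x := by
      rw [map_pow, Units.val_pow_eq_pow_val]
      have h4 : ex u ≡ 1 [MOD p] := ((mem_JJ (p := p) u).1 hu).of_dvd (Nat.dvd_gcd hpG (Dvd.intro _ rfl))
      have h5 := H700.PRat.pow_congr (hl x) h4
      rw [h5, pow_one]
    change (χ : G → ℂ) ((x : G) ^ ex u) * conj (l x : ℂ) = (χ : G → ℂ) ((x ^ ex u : P) : G) * conj (l (x ^ ex u) : ℂ)
    rw [h3]
    rfl
  rw [h2, ← hn χ] at h1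
  have h3 := mul_right_cancel₀ hc h1
  exact_mod_cast h3

theorem sum_nl (P : Subgroup G) [Fintype P] [Fintype (IrrCharacter G)] {l : P →* ℂˣ} {n : IrrCharacter G → ℤ}
    (hn : ∀ χ : IrrCharacter G, (n χ : ℂ) * Nat.card P = ∑ x : P, (χ : G → ℂ) x * conj (l x : ℂ)) :
    ∑ χ : IrrCharacter G, n χ * charDegree (χ : G → ℂ) = P.index := by
  classical
  have : Fintype G := Fintype.ofFinite G
  have hc : (Nat.card P : ℂ) ≠ 0 := card_ne_zero_complex
  have h1 : (Nat.card P : ℂ) * ∑ χ : IrrCharacter G, (n χ : ℂ) * charDegree (χ : G → ℂ) = Nat.card G := by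
    calc (Nat.card P : ℂ) * ∑ χ : IrrCharacter G, (n χ : ℂ) * charDegree (χ : G → ℂ)
        = ∑ χ : IrrCharacter G, ∑ x : P, ((χ : G → ℂ) x * conj ((χ : G → ℂ) 1)) * conj (l x : ℂ) := by
          rw [Finset.mul_sum]
          refine Finset.sum_congr rfl fun χ _ => ?_
          have h2 : conj ((χ : G → ℂ) 1) = (charDegree (χ : G → ℂ) : ℂ) := by
            rw [irr_one_eq_charDegree χ.2, map_natCast]
          rw [h2, ← mul_assoc, mul_comm (Nat.card P : ℂ), hn, Finset.sum_mul]
          exact Finset.sum_congr rfl fun x _ => by ring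
      _ = ∑ x : P, (∑ χ : IrrCharacter G, (χ : G → ℂ) x * conj ((χ : G → ℂ) 1)) * conj (l x : ℂ) := by
          rw [Finset.sum_comm]
          exact Finset.sum_congr rfl fun x _ => by rw [Finset.sum_mul]
      _ = ∑ x : P, (if x = 1 then (Nat.card G : ℂ) else 0) := by
          refine Finset.sum_congr rfl fun x _ => ?_
          rw [Cfsg.Agent.S0876.sum_irr_mul_conj]
          split_ifs with hx
          · subst hx
            have h3 : Nat.card {y : G // y * ((1 : P) : G) * y⁻¹ = 1} = Nat.card G := by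
              refine Nat.card_congr (Equiv.subtypeUnivEquiv fun y => ?_)
              simp
            rw [h3, map_one, Units.val_one, map_one, mul_one]
          · have h3 : Nat.card {y : G // y * (x : G) * y⁻¹ = 1} = 0 := by
              rw [Nat.card_eq_zero]
              left
              refine ⟨fun y => hx ?_⟩
              have h4 := y.2
              rw [mul_inv_eq_one, mul_eq_left] at h4
              exact Subtype.ext h4
            rw [h3, Nat.cast_zero, zero_mul]
      _ = Nat.card G := by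
          rw [Finset.sum_ite_eq' Finset.univ (1 : P) fun _ => (Nat.card G : ℂ)]
          simp
  have h2 : (Nat.card G : ℂ) = Nat.card P * P.index := by
    rw [← Nat.cast_mul, Subgroup.card_mul_index]
  rw [h2] at h1
  have h3 := mul_left_cancel₀ hc h1
  exact_mod_cast h3

/-- the key congruence -/
theorem key (P : Subgroup G) [Fintype P] [Fintype (IrrCharacter G)] (hpG : p ∣ Nat.card G) {l : P →* ℂˣ}
    (hl : ∀ x, (l x : ℂ) ^ p = 1) {c : IrrCharacter G → ℤ} {m : ℤ}
    (hc0 : ∀ χ : IrrCharacter G, ¬ (¬ p ∣ charDegree (χ : G → ℂ) ∧ Alm p (χ : G → ℂ)) → c χ = 0)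
    (hcm : ∀ χ : IrrCharacter G, ¬ p ∣ charDegree (χ : G → ℂ) → Alm p (χ : G → ℂ) →
      (p : ℤ) ∣ c χ - m * charDegree (χ : G → ℂ)) :
    ∃ b : ℤ, b ≡ m * P.index [ZMOD p] ∧
      (b : ℂ) * Nat.card P = ∑ x : P, (∑ χ : IrrCharacter G, (c χ : ℂ) * (χ : G → ℂ) x) * conj (l x : ℂ) := by
  classical
  obtain ⟨n, hn⟩ := exists_nl P l
  refine ⟨∑ χ : IrrCharacter G, c χ * n χ, ?_, ?_⟩
  · let act0 : MulAction (ZMod (Nat.card G))ˣ (IrrCharacter G) := gact G
    have : NeZero (Nat.card G) := ⟨(Nat.card_pos (α := G)).ne'⟩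
    have hsm : ∀ (u : JJ p G) (χ : IrrCharacter G), u • χ = pw u.1 χ := fun _ _ => rfl
    have h1 := sum_modEq_fixed (p := p) (A := JJ p G) (isPGroup_JJ (p := p) (G := G)) (I := IrrCharacter G)
      (fun χ => n χ * charDegree (χ : G → ℂ)) (fun u χ => by
        simp only [hsm]
        rw [charDegree_pw, nl_pw hpG hl hn u.2])
    rw [sum_nl P hn] at h1
    refine Int.ModEq.trans ?_ (h1.symm.mul_left m)
    rw [Finset.mul_sum, Int.modEq_iff_dvd, ← Finset.sum_sub_distrib]
    refine Finset.dvd_sum fun χ _ => ?_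
    have h2 : (∀ u : JJ p G, u • χ = χ) ↔ Alm p (χ : G → ℂ) := by
      rw [alm_iff]
      exact ⟨fun h u hu => h ⟨u, hu⟩, fun h u => h u.1 u.2⟩
    by_cases h3 : Alm p (χ : G → ℂ)
    · rw [if_pos (h2.2 h3)]
      by_cases h4 : p ∣ charDegree (χ : G → ℂ)
      · rw [hc0 χ (fun h => h.1 h4), zero_mul, sub_zero]
        exact Dvd.dvd.mul_left (Dvd.dvd.mul_left (by exact_mod_cast h4) _) _
      · have h5 := (hcm χ h4 h3).mul_right (n χ)
        rw [← dvd_neg] at h5
        convert h5 using 1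
        ring
    · rw [if_neg (fun h => h3 (h2.1 h)), hc0 χ (fun h => h3 h.2), zero_mul, mul_zero, sub_zero]
      exact dvd_zero _
  · push_cast
    rw [Finset.sum_mul]
    calc ∑ χ : IrrCharacter G, (c χ : ℂ) * n χ * Nat.card P
        = ∑ χ : IrrCharacter G, ∑ x : P, (c χ : ℂ) * (χ : G → ℂ) x * conj (l x : ℂ) := by
          refine Finset.sum_congr rfl fun χ _ => ?_
          rw [mul_assoc, hn, Finset.mul_sum]
          exact Finset.sum_congr rfl fun x _ => by ring
      _ = _ := by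
          rw [Finset.sum_comm]
          exact Finset.sum_congr rfl fun x _ => by rw [Finset.sum_mul]

/-- the sum over the kernel -/
theorem ker_sum {P : Type*} [Group P] [Fintype P] {l : P →* ℂˣ} (hl : ∀ x, (l x : ℂ) ^ p = 1) {F : P → ℤ} {b j : ℤ}
    (hb : (b : ℂ) * Nat.card P = p * ∑ x : P, (F x : ℂ) * conj (l x : ℂ))
    (hj : (j : ℂ) * Nat.card P = p * ∑ x : P, (F x : ℂ)) [DecidablePred fun x : P => l x = 1] :
    (j + (p - 1) * b) * Nat.card P = (p : ℤ) ^ 2 * ∑ x : P, if l x = 1 then F x else 0 := by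
  have hcl : ∀ x, (conj (l x : ℂ)) ^ p = 1 := fun x => by rw [← map_pow, hl, map_one]
  have h1 : ∀ i ∈ Finset.range p, ((if i = 0 then j else b : ℤ) : ℂ) * Nat.card P =
      p * ∑ x : P, (F x : ℂ) * (conj (l x : ℂ)) ^ i := by
    intro i hi
    rcases Nat.eq_zero_or_pos i with rfl | h0
    · rw [if_pos rfl, hj]
      simp only [pow_zero, mul_one]
    · rw [if_neg h0.ne']
      have hcop : i.Coprime p := by
        rw [Nat.coprime_comm]
        exact (Nat.Prime.coprime_iff_not_dvd hp.out).2 (Nat.not_dvd_of_pos_of_lt h0 (Finset.mem_range.1 hi))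
      obtain ⟨σ, hσ⟩ := GaloisBasic.exists_ringEquiv_pow hp.out.ne_zero hcop
      have h2 := congrArg σ hb
      rw [map_mul, map_intCast, map_natCast, map_mul, map_natCast, map_sum] at h2
      rw [h2]
      congr 1
      refine Finset.sum_congr rfl fun x _ => ?_
      rw [map_mul, map_intCast, hσ _ (hcl x)]
  have h2 := Finset.sum_congr rfl h1
  rw [← Finset.sum_mul, ← Finset.mul_sum, Finset.sum_comm] at h2
  have h3 : ∑ i ∈ Finset.range p, ((if i = 0 then j else b : ℤ) : ℂ) = j + (p - 1) * b := by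
    obtain ⟨q, hq⟩ : ∃ q, p = q + 1 := ⟨p - 1, (Nat.succ_pred_eq_of_pos hp.out.pos).symm⟩
    rw [hq, Finset.sum_range_succ']
    simp
    ring
  have h4 : ∀ x : P, ∑ i ∈ Finset.range p, (F x : ℂ) * (conj (l x : ℂ)) ^ i = p * ((if l x = 1 then F x else 0 : ℤ) : ℂ) := by
    intro x
    rw [← Finset.mul_sum]
    split_ifs with hx
    · rw [hx, Units.val_one, map_one]
      simp only [one_pow, Finset.sum_const, Finset.card_range, nsmul_eq_mul, mul_one]
      ring
    · have h5 : (conj (l x : ℂ) - 1) ≠ 0 := by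
        intro h6
        apply hx
        have h7 : conj (l x : ℂ) = 1 := sub_eq_zero.1 h6
        have h8 : (l x : ℂ) = 1 := by
          have := congrArg conj h7
          rwa [Complex.conj_conj, map_one] at this
        exact Units.ext h8
      have h6 := mul_geom_sum (conj (l x : ℂ)) p
      rw [hcl, sub_self] at h6
      rcases mul_eq_zero.1 h6 with h7 | h7
      · exact absurd h7 h5
      · rw [h7]
        simp
  rw [h3, Finset.sum_congr rfl fun x _ => h4 x, ← Finset.mul_sum] at h2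
  have h5 : (((j + (p - 1) * b) * Nat.card P : ℤ) : ℂ) = (((p : ℤ) ^ 2 * ∑ x : P, (if l x = 1 then F x else 0) : ℤ) : ℂ) := by
    push_cast at h2 ⊢
    rw [h2]
    ring
  exact_mod_cast h5

theorem num {p k S s j b : ℤ} (hp : 2 ≤ p) (hk : 0 < k) (hS0 : 0 ≤ S) (hS1 : S ≤ p * k) (hs0 : 0 ≤ s) (hs1 : s ≤ k)
    (h1 : j * (p * k) = p * S) (h2 : (j + (p - 1) * b) * (p * k) = p ^ 2 * s) (hbj : p ∣ b - j) (hj0 : ¬ p ∣ j) :
    (S = k ∧ s = k) ∨ (S = (p - 1) * k ∧ s = 0) := by
  have hp0 : p ≠ 0 := by omega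
  have h3 : j * k = S := mul_left_cancel₀ hp0 (by linarith)
  obtain ⟨t, ht⟩ := hbj
  have h4 : b = j + p * t := by linarith
  subst h4
  have h5 : (j + (p - 1) * t) * k = s := by
    have h6 : (p ^ 2 : ℤ) ≠ 0 := pow_ne_zero _ hp0
    refine mul_left_cancel₀ h6 ?_
    rw [← h2]
    ring
  have h6 : 0 ≤ j := by
    by_contra h
    push Not at h
    nlinarith
  have h7 : j ≤ p := by
    by_contra h
    push Not at h
    nlinarith
  have h8 : j ≠ 0 := fun h => hj0 (h ▸ dvd_zero p)
  have h9 : j ≠ p := fun h => hj0 (h ▸ dvd_refl p)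
  have h10 : 0 ≤ j + (p - 1) * t := by
    by_contra h
    push Not at h
    nlinarith
  have h11 : j + (p - 1) * t ≤ 1 := by
    by_contra h
    push Not at h
    nlinarith
  have h12 : -1 ≤ t := by
    by_contra h
    push Not at h
    have h12 : t ≤ -2 := by omega
    have h13 : (p - 1) * t ≤ (p - 1) * (-2) := mul_le_mul_of_nonneg_left h12 (by omega)
    omega
  have h13 : t ≤ 0 := by
    by_contra h
    push Not at h
    have : 1 ≤ t := by omega
    have : 1 ≤ j := by omega
    nlinarith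
  rcases (show t = -1 ∨ t = 0 by omega) with rfl | rfl
  · right
    have h14 : j = p - 1 := by omega
    subst h14
    refine ⟨h3.symm, ?_⟩
    rw [← h5]
    ring
  · left
    have h14 : j = 1 := by omega
    subst h14
    exact ⟨by linarith, by linarith⟩

/-- the kernel is determined by `F` -/
theorem ker_eq {P : Type*} [Group P] [Fintype P] {K : Subgroup P} [K.Normal] (hK : K.index = p) {F : P → ℤ}
    (hFF : ∀ x, F x * F x = F x) {j : ℤ} (hj0 : ¬ (p : ℤ) ∣ j) (hj : (j : ℂ) * Nat.card P = p * ∑ x : P, (F x : ℂ))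
    (h : ∀ l : P →* ℂˣ, (∀ x, (l x : ℂ) ^ p = 1) → ∃ b : ℤ, b ≡ j [ZMOD p] ∧
      (b : ℂ) * Nat.card P = p * ∑ x : P, (F x : ℂ) * conj (l x : ℂ)) (x : P) : x ∈ K ↔ F x = F 1 := by
  classical
  obtain ⟨l, hl, hlp⟩ := exists_lin (p := p) hK
  obtain ⟨b, hb1, hb2⟩ := h l hlp
  have h1 := ker_sum hlp hb2 hj
  have hF : ∀ x, F x = 0 ∨ F x = 1 := by
    intro x
    have h2 : F x * (F x - 1) = 0 := by linarith [hFF x]
    rcases mul_eq_zero.1 h2 with h3 | h3
    · exact Or.inl h3
    · exact Or.inr (by omega)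
  have hmem : ∀ x, l x = 1 ↔ x ∈ K := fun x => by rw [← hl, MonoidHom.mem_ker]
  set k : ℤ := ((Finset.univ.filter fun x : P => l x = 1).card : ℤ) with hk
  have hcK : (Finset.univ.filter fun x : P => l x = 1).card = Nat.card K := by
    rw [Nat.card_eq_fintype_card, Fintype.card_subtype]
    congr 1
    ext x
    simp only [Finset.mem_filter, hmem]
  have hcP : (Nat.card P : ℤ) = p * k := by
    rw [hk, hcK, ← Subgroup.card_mul_index K, hK]
    push_cast
    ring
  have hk0 : 0 < k := by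
    rw [hk, hcK]
    exact_mod_cast Nat.card_pos
  set S : ℤ := ∑ x : P, F x with hS
  set s : ℤ := ∑ x : P, (if l x = 1 then F x else 0) with hs
  have hone : ∑ x : P, (if l x = 1 then (1 : ℤ) else 0) = k := by
    rw [Finset.sum_boole]
  have hS0 : 0 ≤ S := Finset.sum_nonneg fun x _ => by rcases hF x with h2 | h2 <;> rw [h2] <;> norm_num
  have hS1 : S ≤ p * k := by
    rw [← hcP, Nat.card_eq_fintype_card]
    have h2 : S ≤ ∑ x : P, (1 : ℤ) := Finset.sum_le_sum fun x _ => by rcases hF x with h2 | h2 <;> rw [h2] <;> norm_num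
    simpa using h2
  have hs0 : 0 ≤ s := Finset.sum_nonneg fun x _ => by
    split_ifs
    · rcases hF x with h2 | h2 <;> rw [h2] <;> norm_num
    · exact le_refl 0
  have hs1 : s ≤ k := by
    rw [← hone]
    refine Finset.sum_le_sum fun x _ => ?_
    split_ifs
    · rcases hF x with h2 | h2 <;> rw [h2] <;> norm_num
    · exact le_refl 0
  have h2 : j * (p * k) = p * S := by
    rw [← hcP]
    have h3 : ((j * Nat.card P : ℤ) : ℂ) = ((p * S : ℤ) : ℂ) := by
      rw [hS]
      push_cast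
      exact hj
    exact_mod_cast h3
  rw [hcP] at h1
  have h3 : (2 : ℤ) ≤ p := by exact_mod_cast hp.out.two_le
  have h4 : (p : ℤ) ∣ b - j := (Int.modEq_iff_dvd.1 hb1.symm)
  rcases num h3 hk0 hS0 hS1 hs0 hs1 h2 h1 h4 hj0 with ⟨h5, h6⟩ | ⟨h5, h6⟩
  · have h7 : ∑ x : P, (if l x = 1 then 1 - F x else F x) = 0 := by
      have h8 : ∀ x : P, (if l x = 1 then 1 - F x else F x) =
          (if l x = 1 then (1 : ℤ) else 0) + F x - 2 * (if l x = 1 then F x else 0) := by
        intro x
        split_ifs <;> ring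
      rw [Finset.sum_congr rfl fun x _ => h8 x, Finset.sum_sub_distrib, Finset.sum_add_distrib, ← Finset.mul_sum, hone,
        ← hS, ← hs, h5, h6]
      ring
    have h8 := (Finset.sum_eq_zero_iff_of_nonneg fun x _ => by
      split_ifs
      · rcases hF x with h2 | h2 <;> rw [h2] <;> norm_num
      · rcases hF x with h2 | h2 <;> rw [h2] <;> norm_num).1 h7
    have h9 : ∀ x, (l x = 1 ∧ F x = 1) ∨ (l x ≠ 1 ∧ F x = 0) := by
      intro x
      have h10 := h8 x (Finset.mem_univ x)
      by_cases hx : l x = 1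
      · rw [if_pos hx] at h10
        exact Or.inl ⟨hx, by omega⟩
      · rw [if_neg hx] at h10
        exact Or.inr ⟨hx, h10⟩
    have h10 : F 1 = 1 := by
      rcases h9 1 with h11 | h11
      · exact h11.2
      · exact absurd (map_one l) h11.1
    rw [← hmem, h10]
    rcases h9 x with h11 | h11
    · exact ⟨fun _ => h11.2, fun _ => h11.1⟩
    · exact ⟨fun h12 => absurd h12 h11.1, fun h12 => by rw [h11.2] at h12; norm_num at h12⟩
  · have h7 : ∑ x : P, (if l x = 1 then F x else 1 - F x) = 0 := by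
      have h8 : ∀ x : P, (if l x = 1 then F x else 1 - F x) =
          1 - (if l x = 1 then (1 : ℤ) else 0) - F x + 2 * (if l x = 1 then F x else 0) := by
        intro x
        split_ifs <;> ring
      have h9 : ∑ x : P, (1 : ℤ) = p * k := by
        rw [← hcP, Nat.card_eq_fintype_card]
        simp
      rw [Finset.sum_congr rfl fun x _ => h8 x, Finset.sum_add_distrib, Finset.sum_sub_distrib, Finset.sum_sub_distrib,
        ← Finset.mul_sum, hone, ← hS, ← hs, h5, h6, h9]
      ring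
    have h8 := (Finset.sum_eq_zero_iff_of_nonneg fun x _ => by
      split_ifs
      · rcases hF x with h2 | h2 <;> rw [h2] <;> norm_num
      · rcases hF x with h2 | h2 <;> rw [h2] <;> norm_num).1 h7
    have h9 : ∀ x, (l x = 1 ∧ F x = 0) ∨ (l x ≠ 1 ∧ F x = 1) := by
      intro x
      have h10 := h8 x (Finset.mem_univ x)
      by_cases hx : l x = 1
      · rw [if_pos hx] at h10
        exact Or.inl ⟨hx, h10⟩
      · rw [if_neg hx] at h10
        exact Or.inr ⟨hx, by omega⟩
    have h10 : F 1 = 0 := by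
      rcases h9 1 with h11 | h11
      · exact h11.2
      · exact absurd (map_one l) h11.1
    rw [← hmem, h10]
    rcases h9 x with h11 | h11
    · exact ⟨fun _ => h11.2, fun _ => h11.1⟩
    · exact ⟨fun h12 => absurd h12 h11.1, fun h12 => by rw [h11.2] at h12; norm_num at h12⟩

/-- **The case of equality.** -/
theorem cyclic_of_idem [Fintype (IrrCharacter G)] (hpG : p ∣ Nat.card G) (P : Sylow p G) {c : IrrCharacter G → ℤ} {m : ℤ}
    (hm : ¬ (p : ℤ) ∣ m)
    (hc0 : ∀ χ : IrrCharacter G, ¬ (¬ p ∣ charDegree (χ : G → ℂ) ∧ Alm p (χ : G → ℂ)) → c χ = 0)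
    (hcm : ∀ χ : IrrCharacter G, ¬ p ∣ charDegree (χ : G → ℂ) → Alm p (χ : G → ℂ) →
      (p : ℤ) ∣ c χ - m * charDegree (χ : G → ℂ))
    {F : G → ℤ} (hF : ∀ g, ∑ χ : IrrCharacter G, (c χ : ℂ) * (χ : G → ℂ) g = p * F g) (hFF : ∀ g, F g * F g = F g) :
    IsCyclic (P : Subgroup G) := by
  classical
  have : Fintype (P : Subgroup G) := Fintype.ofFinite _
  have hkey : ∀ l : (P : Subgroup G) →* ℂˣ, (∀ x, (l x : ℂ) ^ p = 1) → ∃ b : ℤ, b ≡ m * (P : Subgroup G).index [ZMOD p] ∧
      (b : ℂ) * Nat.card (P : Subgroup G) = p * ∑ x : (P : Subgroup G), (F x : ℂ) * conj (l x : ℂ) := by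
    intro l hl
    obtain ⟨b, hb1, hb2⟩ := key (P : Subgroup G) hpG hl hc0 hcm
    refine ⟨b, hb1, ?_⟩
    rw [hb2, Finset.mul_sum]
    refine Finset.sum_congr rfl fun x _ => ?_
    rw [hF]
    ring
  obtain ⟨j, hj1, hj2⟩ := hkey 1 (fun x => by simp)
  have hj3 : (j : ℂ) * Nat.card (P : Subgroup G) = p * ∑ x : (P : Subgroup G), (F x : ℂ) := by
    rw [hj2]
    congr 1
    refine Finset.sum_congr rfl fun x _ => ?_
    simp
  have hj0 : ¬ (p : ℤ) ∣ j := by
    intro h1
    have h2 : (p : ℤ) ∣ m * (P : Subgroup G).index := (Int.ModEq.dvd_iff hj1).1 h1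
    rcases (Nat.prime_iff_prime_int.1 hp.out).dvd_or_dvd h2 with h3 | h3
    · exact hm h3
    · exact P.not_dvd_index (by exact_mod_cast h3)
  have h1 : ∀ K : Subgroup (P : Subgroup G), IsCoatom K → ∀ x, x ∈ K ↔ F (x : G) = F 1 := by
    intro K hK x
    obtain ⟨h2, h3⟩ := Cfsg.Agent.S0014.coatom_normal_index P.isPGroup' hK
    have h4 := ker_eq (p := p) (K := K) h3 (F := fun x : (P : Subgroup G) => F (x : G)) (fun x => hFF _) hj0 hj3
      (fun l hl => by
        obtain ⟨b, hb1, hb2⟩ := hkey l hl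
        exact ⟨b, hb1.trans hj1.symm, hb2⟩) x
    exact h4
  refine isCyclic_of_unique fun K L hK hL => ?_
  ext x
  rw [h1 K hK, h1 L hL]

end Cfsg.Agent.H563.XZ
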