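import Cfsg.Agent.H674.XZ.Gal
import Cfsg.Agent.H703.Lat.ModP
import Cfsg.Agent.S0876

/-!
# S4791: the lattice lemma for the almost `p`-rational characters (helper563)

* `jj_congr` : `χ (g ^ k) ≡ χ g` modulo `M` for the exponents `k` of `JJ p G`.
* `sum_eq_fixed` : sums of invariant functions with values in a ring of characteristic `p`.
* `exists_FX` : if `c` is supported on the members of `X0`, invariant under the power maps and `c χ ≡ m χ(1)` modulo `p`, then
  `∑ c(χ) χ(g) = p F(g)` with an integer valued `F`.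
* `latX` : `p x ≤ ∑ ⟨x χ(1)⟩²`, sum over the members of `X0`; `latX_eq` : equality.
-/

set_option autoImplicit false

open scoped ComplexConjugate

namespace Cfsg.Agent.H563.XZ

open Cfsg Cfsg.Agent.Characters Cfsg.Agent.Characters.Core Cfsg.Agent.H674.XZ Cfsg.Agent.H703.Lat
open Cfsg.Agent.Blocks Cfsg.Agent.Blocks.Basic Cfsg.Agent.Blocks.LocalRing
open Cfsg.Agent.CharactersDeep.ModCongr (memLocalIdeal_character_sub isIntegral_irr)

universe u

variable {p : ℕ} [hp : Fact p.Prime] {M : Ideal AlgInt} {G : Type u} [Group G] [Finite G]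

theorem jj_congr (hM : IsPModular p M) {u : (ZMod (Nat.card G))ˣ} (hu : u ∈ JJ p G) (χ : IrrCharacter G) (g : G) :
    MemLocalIdeal M ((χ : G → ℂ) (g ^ ex u) - (χ : G → ℂ) g) := by
  obtain ⟨a, y, hay, hc, -, -, ⟨k, hk⟩, hy⟩ := RegularCount.exists_pPart (p := p) g
  have h1 : y ^ ex u = y := by
    have h2 : ex u ≡ 1 [MOD mp p G] := ((mem_JJ (p := p) u).1 hu).of_dvd (mp_dvd_dd p G)
    have h3 : orderOf y ∣ mp p G := by
      have h4 := Nat.ordProj_mul_ordCompl_eq_self (Nat.card G) p
      have h5 : orderOf y ∣ Nat.card G := orderOf_dvd_natCard y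
      rw [← h4] at h5
      exact (Nat.Coprime.pow_right _ ((Nat.Prime.coprime_iff_not_dvd hp.out).2 hy).symm).dvd_of_dvd_mul_left h5
    conv_rhs => rw [← pow_one y]
    rw [pow_eq_pow_iff_modEq]
    exact h2.of_dvd h3
  have h2 : IsPPart p g a := ⟨y, hay, hc, ⟨k, hk⟩, hy⟩
  have h3 : a ^ ex u * y = g ^ ex u := by
    rw [← hay, hc.mul_pow, h1]
  have h4 : IsPPart p (g ^ ex u) (a ^ ex u) := by
    refine ⟨y, h3, hc.pow_left _, ?_, hy⟩
    have h5 : orderOf (a ^ ex u) ∣ p ^ k := hk ▸ orderOf_pow_dvd _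
    obtain ⟨j, -, hj⟩ := (Nat.dvd_prime_pow hp.out).1 h5
    exact ⟨j, hj⟩
  have h5 := memLocalIdeal_character_sub hM χ.2 g a h2
  have h6 := memLocalIdeal_character_sub hM χ.2 (g ^ ex u) (a ^ ex u) h4
  have h7 : a⁻¹ * g = y := by rw [← hay, inv_mul_cancel_left]
  have h8 : (a ^ ex u)⁻¹ * g ^ ex u = y := by rw [← h3, inv_mul_cancel_left]
  rw [h7] at h5
  rw [h8] at h6
  have h9 := memLocalIdeal_sub hM h6 h5
  convert h9 using 1
  ring

/-- a `p`-group acting on a finite set, an invariant function with values in a ring of characteristic `p` -/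
theorem sum_eq_fixed {A : Type*} [Group A] [Finite A] (hA : IsPGroup p A) {I : Type*} [Fintype I] [MulAction A I]
    {R : Type*} [Ring R] (hR : (p : R) = 0) (f : I → R) (hf : ∀ (a : A) (i : I), f (a • i) = f i)
    [DecidablePred fun i : I => ∀ a : A, a • i = i] :
    ∑ i, f i = ∑ i, (if ∀ a : A, a • i = i then f i else 0) := by
  classical
  rw [← sub_eq_zero, ← Finset.sum_sub_distrib]
  have h0 : ∀ i, (f i - (if ∀ a : A, a • i = i then f i else 0)) = (if ∀ a : A, a • i = i then 0 else f i) := by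
    intro i
    split_ifs <;> simp
  rw [Finset.sum_congr rfl fun i _ => h0 i]
  rw [← Finset.sum_fiberwise_of_maps_to (s := Finset.univ) (t := Finset.univ)
    (g := fun i => (Quotient.mk (MulAction.orbitRel A I) i)) (fun i _ => Finset.mem_univ _)]
  refine Finset.sum_eq_zero fun q _ => ?_
  induction q using Quotient.inductionOn with
  | h j =>
    have h1 : ∀ i ∈ Finset.univ.filter (fun i => (Quotient.mk (MulAction.orbitRel A I) i) = Quotient.mk _ j),
        (if ∀ a : A, a • i = i then (0 : R) else f i) = (if ∀ a : A, a • j = j then (0 : R) else f j) := by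
      intro i hi
      rw [Finset.mem_filter] at hi
      obtain ⟨a, rfl⟩ := MulAction.orbitRel_apply.1 (Quotient.exact hi.2)
      change (if ∀ b : A, b • a • j = a • j then (0 : R) else f (a • j)) = _
      rw [hf]
      have h2 : (∀ b : A, b • a • j = a • j) ↔ ∀ b : A, b • j = j := by
        constructor
        · intro h b
          have h3 := h (a * b * a⁻¹)
          rw [← mul_smul, inv_mul_cancel_right, mul_smul] at h3
          exact (MulAction.injective a) h3
        · intro h b
          rw [h a, h b]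
      simp only [h2]
    rw [Finset.sum_congr rfl h1, Finset.sum_const, nsmul_eq_mul]
    split_ifs with h3
    · rw [mul_zero]
    · have h4 : (Finset.univ.filter (fun i => (Quotient.mk (MulAction.orbitRel A I) i) = Quotient.mk _ j)).card =
          Nat.card (MulAction.orbit A j) := by
        rw [Nat.card_eq_fintype_card, ← Set.toFinset_card]
        congr 1
        ext i
        rw [Finset.mem_filter, Set.mem_toFinset]
        constructor
        · intro h
          exact MulAction.orbitRel_apply.1 (Quotient.exact h.2)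
        · intro h
          exact ⟨Finset.mem_univ _, Quotient.sound (MulAction.orbitRel_apply.2 h)⟩
      have h5 : p ∣ Nat.card (MulAction.orbit A j) := by
        obtain ⟨n, hn⟩ := hA.card_orbit j
        rw [hn]
        rcases Nat.eq_zero_or_pos n with h6 | h6
        · exfalso
          rw [h6, pow_zero] at hn
          apply h3
          intro a
          have h7 := Nat.card_eq_one_iff_unique.1 hn
          have := h7.1
          exact congrArg Subtype.val (Subsingleton.elim (⟨a • j, MulAction.mem_orbit j a⟩ : MulAction.orbit A j)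
            ⟨j, MulAction.mem_orbit_self j⟩)
        · exact dvd_pow_self p h6.ne'
      rw [h4]
      obtain ⟨t, ht⟩ := h5
      rw [ht, Nat.cast_mul, hR, zero_mul, zero_mul]

/-- the value as an algebraic integer -/
noncomputable def vv (χ : IrrCharacter G) (g : G) : AlgInt := ⟨(χ : G → ℂ) g, isIntegral_irr χ.2 g⟩

theorem vv_pw (hM : IsPModular p M) {u : (ZMod (Nat.card G))ˣ} (hu : u ∈ JJ p G) (χ : IrrCharacter G) (g : G) :
    Ideal.Quotient.mk M (vv (pw u χ) g) = Ideal.Quotient.mk M (vv χ g) := by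
  rw [Ideal.Quotient.eq, ← memLocalIdeal_coe_iff hM]
  exact jj_congr hM hu χ g

/-- **The lattice lemma for the almost `p`-rational characters of degree prime to `p`.** -/
theorem exists_FX (hM : IsPModular p M) (hpG : p ∣ Nat.card G) {c : IrrCharacter G → ℤ} (hc : Inv c) (m : ℤ)
    (hc0 : ∀ χ : IrrCharacter G, ¬ Mem0 p M χ → c χ = 0)
    (hcm : ∀ χ : IrrCharacter G, Mem0 p M χ → (p : ℤ) ∣ c χ - m * charDegree (χ : G → ℂ)) :
    ∃ F : G → ℤ, ∀ g, ∑ χ ∈ B0 M G, (c χ : ℂ) * (χ : G → ℂ) g = (p : ℂ) * F g := by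
  classical
  suffices h : ∀ g : G, ∃ n : ℤ, ∑ χ ∈ B0 M G, (c χ : ℂ) * (χ : G → ℂ) g = (p : ℂ) * n by
    choose F hF using h
    exact ⟨F, hF⟩
  intro g
  have hfin : Finite (IrrCharacter G) := finite_irr
  let : Fintype (IrrCharacter G) := Fintype.ofFinite _
  obtain ⟨x, hx⟩ := exists_int (good_principal hM) hc g
  obtain ⟨t, ht⟩ := theta_dvd hM (good_principal (G := G) hM) (a := 1) (by rwa [pow_one]) g
  set π := Ideal.Quotient.mk M with hπ
  have hR : (p : AlgInt ⧸ M) = 0 := by
    have h1 : π (p : AlgInt) = 0 := Ideal.Quotient.eq_zero_iff_mem.2 hM.2.2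
    rwa [map_natCast] at h1
  let act0 : MulAction (ZMod (Nat.card G))ˣ (IrrCharacter G) := gact G
  have : NeZero (Nat.card G) := ⟨(Nat.card_pos (α := G)).ne'⟩
  have hsm : ∀ (u : JJ p G) (χ : IrrCharacter G), u • χ = pw u.1 χ := fun _ _ => rfl
  have h1 := sum_eq_fixed (p := p) (A := JJ p G) (isPGroup_JJ (p := p) (G := G)) (I := IrrCharacter G) hR
    (fun χ => if χ ∈ principalBlock M G then π ((((c χ - m * charDegree (χ : G → ℂ) : ℤ)) : AlgInt) * vv χ g) else 0)
    (fun u χ => by
      simp only [hsm]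
      have h2 : c (pw u.1 χ) = c χ := hc _ (ex_coprime u.1) χ
      rw [charDegree_pw, map_mul, map_mul, vv_pw hM u.2, h2]
      simp only [pw_mem_iff, ← hπ])
  have h2 : ∑ χ : IrrCharacter G, (if χ ∈ principalBlock M G then
      π ((((c χ - m * charDegree (χ : G → ℂ) : ℤ)) : AlgInt) * vv χ g) else 0) = 0 := by
    rw [h1]
    refine Finset.sum_eq_zero fun χ _ => ?_
    have h2 : (∀ u : JJ p G, u • χ = χ) ↔ Alm p (χ : G → ℂ) := by
      rw [alm_iff]
      exact ⟨fun h u hu => h ⟨u, hu⟩, fun h u => h u.1 u.2⟩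
    split_ifs with h3 h4
    · have h5 : (p : ℤ) ∣ c χ - m * charDegree (χ : G → ℂ) := by
        by_cases h6 : p ∣ charDegree (χ : G → ℂ)
        · rw [hc0 χ (fun h => h.2.1 h6), zero_sub]
          exact (Dvd.dvd.mul_left (by exact_mod_cast h6) _).neg_right
        · exact hcm χ ⟨h4, h6, h2.1 h3⟩
      obtain ⟨s, hs⟩ := h5
      rw [hs, Int.cast_mul, Int.cast_natCast, mul_assoc, map_mul, map_natCast, hR, zero_mul]
    · rfl
    · rfl
  have h3 : MemLocalIdeal M (∑ χ ∈ B0 M G, ((c χ : ℂ) - m * charDegree (χ : G → ℂ)) * (χ : G → ℂ) g) := by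
    have h4 : (∑ χ ∈ B0 M G, ((c χ : ℂ) - m * charDegree (χ : G → ℂ)) * (χ : G → ℂ) g) =
        ((∑ χ ∈ B0 M G, (((c χ - m * charDegree (χ : G → ℂ) : ℤ)) : AlgInt) * vv χ g : AlgInt) : ℂ) := by
      rw [AddSubmonoidClass.coe_finsetSum]
      refine Finset.sum_congr rfl fun χ _ => ?_
      have h5 : (((((c χ - m * charDegree (χ : G → ℂ) : ℤ)) : AlgInt) * vv χ g : AlgInt) : ℂ) =
          ((((c χ - m * charDegree (χ : G → ℂ) : ℤ)) : AlgInt) : ℂ) * (χ : G → ℂ) g := rfl
      rw [h5]
      push_cast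
      rfl
    rw [h4, memLocalIdeal_coe_iff hM, ← Ideal.Quotient.eq_zero_iff_mem, map_sum]
    have h5 : B0 M G = Finset.univ.filter (fun χ : IrrCharacter G => χ ∈ principalBlock M G) := by
      ext χ
      rw [mem_B0, Finset.mem_filter]
      exact ⟨fun h => ⟨Finset.mem_univ _, h⟩, fun h => h.2⟩
    rw [h5, Finset.sum_filter]
    exact h2
  have h4 : MemLocalIdeal M (∑ χ ∈ B0 M G, (c χ : ℂ) * (χ : G → ℂ) g) := by
    have h5 : (∑ χ ∈ B0 M G, (c χ : ℂ) * (χ : G → ℂ) g) =
        (∑ χ ∈ B0 M G, ((c χ : ℂ) - m * charDegree (χ : G → ℂ)) * (χ : G → ℂ) g) +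
          ((m * t : ℤ) : ℂ) * (p : ℂ) := by
      have h6 : ((m * t : ℤ) : ℂ) * (p : ℂ) = m * ∑ χ ∈ B0 M G, (charDegree (χ : G → ℂ) : ℂ) * (χ : G → ℂ) g := by
        rw [ht]
        push_cast
        ring
      rw [h6, Finset.mul_sum, ← Finset.sum_add_distrib]
      refine Finset.sum_congr rfl fun χ _ => ?_
      ring
    rw [h5]
    refine memLocalIdeal_add hM h3 ?_
    exact memLocalIdeal_mul_left hM (memLocalRing_intCast hM _) (memLocalIdeal_prime hM)
  rw [hx, memLocalIdeal_intCast_iff hM] at h4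
  obtain ⟨n, rfl⟩ := h4
  exact ⟨n, by rw [hx]; push_cast; ring⟩

end Cfsg.Agent.H563.XZ
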