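import Cfsg.Agent.H563.XZ.OwnTor
import Cfsg.Agent.AutOrth.Main
import Cfsg.Agent.Nodes.WittInst

set_option autoImplicit false
set_option linter.unusedSectionVars false

namespace Cfsg.Agent.H563.XZ.OwnOm

open QuadraticMap Cfsg.Agent.LieClassical.OrthCore Cfsg.Agent.LieClassical.OrthTrans
  Cfsg.Agent.LieClassical.OrthSimple Cfsg.Agent.AutOrth.SemiSim Cfsg.Agent.AutOrth.Gen
  Cfsg.Agent.AutOrth.Extend Cfsg.Agent.ClassicalGeometry.OrthAut1 Cfsg.Agent.LieClassical.QuadForms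
  Cfsg.Agent.LieClassical.OrthFinite Cfsg.Agent.LieClassical Cfsg.Agent.AutOrth.Main
  Cfsg.Agent.TitsThree Cfsg.Agent.TitsThree.Siegel Cfsg.Agent.TitsThree.SiegelGen
  Cfsg.Agent.TitsThree.WittFrame Cfsg.Agent.TitsThree.WBridge Cfsg.Agent.TitsThree.WittWeyl
  Cfsg.Agent.TitsThree.KSideO Cfsg.Agent.Nodes Cfsg.Agent.Nodes.WittRoot Cfsg.Agent.H563.XZ.OwnTor

section frame

variable {F V : Type*} [Field F] [AddCommGroup V] [Module F V] {H : HForm F V} {ι : Type*} [DecidableEq ι]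
  (Fr : Frame H ι)

/-- the torus element of a pair of signed indices -/
noncomputable def hh (x y : ι × Bool) (c : F) : V ≃ₗ[F] V := nX Fr x y c * (nX Fr x y 1)⁻¹

variable {Fr}

theorem inv_apply_eq {g : V ≃ₗ[F] V} {v w : V} (h : g v = w) : g⁻¹ w = v := by
  rw [← h]
  exact g.symm_apply_apply v

/-- the eigenvalues of `hh x y c` -/
def L (x y : ι × Bool) (c : F) (z : ι × Bool) : F :=
  if z = x ∨ z = y then c else if z = neg x ∨ z = neg y then c⁻¹ else 1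

theorem hh_apply (hσ : ∀ a, H.σ a = a) {x y : ι × Bool} (h : x.1 ≠ y.1) {c : F} (hc : c ≠ 0) (z : ι × Bool) :
    hh Fr x y c (Fr.b z) = L x y c z • Fr.b z := by
  have hk : H.ε⁻¹ * Fr.η x * Fr.η y ≠ 0 := mul_ne_zero (mul_ne_zero (inv_ne_zero H.ε_ne) (Fr.η_ne x)) (Fr.η_ne y)
  have h1 : (1 : F) ≠ 0 := one_ne_zero
  have hx : x ≠ neg x := ne_neg_self x
  have hy : y ≠ neg y := ne_neg_self y
  have hxy : x ≠ y := fun e => h (by rw [e])
  have hxy' : x ≠ neg y := fun e => h (by rw [e]; rfl)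
  have hyx' : y ≠ neg x := fun e => h (by rw [e]; rfl)
  rw [hh, mul_apply']
  by_cases ex : z = x
  · subst ex
    have e1 : nX Fr z y 1 (Fr.b (neg y)) = Fr.b z := by rw [nX_apply_neg Fr h h1, one_smul]
    rw [inv_apply_eq e1, nX_apply_neg Fr h hc, L, if_pos (Or.inl rfl)]
  by_cases ey : z = y
  · subst ey
    have e1 : nX Fr x z 1 (-((H.ε⁻¹ * Fr.η x * Fr.η z)⁻¹ • Fr.b (neg x))) = Fr.b z := by
      rw [map_neg, map_smul, nX_apply_neg' Fr h h1, hσ, mul_one, smul_neg, _root_.neg_neg, smul_smul, inv_mul_cancel₀ hk,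
        one_smul]
    rw [inv_apply_eq e1, map_neg, map_smul, nX_apply_neg' Fr h hc, hσ, L, if_pos (Or.inr rfl), smul_neg, _root_.neg_neg,
      smul_smul, ← mul_assoc, inv_mul_cancel₀ hk, one_mul]
  by_cases enx : z = neg x
  · subst enx
    have e1 : nX Fr x y 1 ((H.ε⁻¹ * Fr.η x * Fr.η y) • Fr.b y) = Fr.b (neg x) := by
      rw [map_smul, nX_apply_self' Fr h h1, hσ, mul_one, smul_smul, mul_inv_cancel₀ hk, one_smul]
    rw [inv_apply_eq e1, map_smul, nX_apply_self' Fr h hc, hσ, L, if_neg (not_or.2 ⟨ex, ey⟩), if_pos (Or.inl rfl),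
      smul_smul, mul_inv, ← mul_assoc, mul_inv_cancel₀ hk, one_mul]
  by_cases eny : z = neg y
  · subst eny
    have e1 : nX Fr x y 1 (-Fr.b x) = Fr.b (neg y) := by
      rw [map_neg, nX_apply_self Fr h h1, inv_one, one_smul, _root_.neg_neg]
    rw [inv_apply_eq e1, map_neg, nX_apply_self Fr h hc, _root_.neg_neg, L, if_neg (not_or.2 ⟨ex, ey⟩), if_pos (Or.inr rfl)]
  · have hz1 : z.1 ≠ x.1 := by
      intro e
      obtain ⟨z1, z2⟩ := z
      obtain ⟨x1, x2⟩ := x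
      subst e
      cases z2 <;> cases x2 <;> simp_all [neg]
    have hz2 : z.1 ≠ y.1 := by
      intro e
      obtain ⟨z1, z2⟩ := z
      obtain ⟨y1, y2⟩ := y
      subst e
      cases z2 <;> cases y2 <;> simp_all [neg]
    rw [inv_apply_eq (nX_apply_of_ne Fr h hz1 hz2 1), nX_apply_of_ne Fr h hz1 hz2, L, if_neg (not_or.2 ⟨ex, ey⟩),
      if_neg (not_or.2 ⟨enx, eny⟩), one_smul]

theorem L_x (x y : ι × Bool) (c : F) : L x y c x = c := if_pos (Or.inl rfl)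

theorem L_y (x y : ι × Bool) (c : F) : L x y c y = c := if_pos (Or.inr rfl)

theorem L_nx {x y : ι × Bool} (h : x.1 ≠ y.1) (c : F) : L x y c (neg x) = c⁻¹ := by
  rw [L, if_neg, if_pos (Or.inl rfl)]
  rintro (e | e)
  · exact ne_neg_self x e.symm
  · exact h (by rw [← e]; rfl)

theorem L_ny {x y : ι × Bool} (h : x.1 ≠ y.1) (c : F) : L x y c (neg y) = c⁻¹ := by
  rw [L, if_neg, if_pos (Or.inr rfl)]
  rintro (e | e)
  · exact h (by rw [← e]; rfl)
  · exact ne_neg_self y e.symm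

theorem L_of_ne {x y z : ι × Bool} (h1 : z.1 ≠ x.1) (h2 : z.1 ≠ y.1) (c : F) : L x y c z = 1 := by
  rw [L, if_neg, if_neg]
  · rintro (e | e)
    · exact h1 (by rw [e]; rfl)
    · exact h2 (by rw [e]; rfl)
  · rintro (e | e)
    · exact h1 (congrArg Prod.fst e)
    · exact h2 (congrArg Prod.fst e)

theorem hh_V0 {x y : ι × Bool} (h : x.1 ≠ y.1) {c : F} {v : V} (hv : v ∈ Fr.V0) : hh Fr x y c v = v := by
  rw [hh, mul_apply', inv_apply_eq (nX_apply_V0 Fr h hv 1), nX_apply_V0 Fr h hv]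

end frame

section orth

variable {ι : Type} [Fintype ι] [DecidableEq ι] {F : Type*} [Field F] {Q : QuadraticForm F (ι → F)}

/-- eigenvalues of a map -/
def EvF {V : Type*} [AddCommGroup V] [Module F V] (f : V → V) (x : F) : Prop := ∃ v : V, v ≠ 0 ∧ f v = x • v

theorem exists_image [Finite F] (hG : Good Q) (h7 : 7 ≤ Fintype.card ι) {α : MulAut (P Q)} (hα : Pt hG α) (g : E Q) :
    ∃ (g' : E Q) (τ : F ≃+* F), α (g : P Q) = (g' : P Q) ∧
      ∀ x, EvF (g' : (ι → F) ≃ₗ[F] (ι → F)) (τ x) ↔ EvF (g : (ι → F) ≃ₗ[F] (ι → F)) x := by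
  obtain ⟨M, τ, c, hM, h⟩ := Cfsg.Agent.ClassicalGeometry.OrthAut4.exists_semi_P hG
    (by rwa [Module.finrank_fintype_fun_eq_card]) α hα
  refine ⟨conjE hM g, τ, h g, fun x => ?_⟩
  constructor
  · rintro ⟨v, hv, e⟩
    obtain ⟨w, rfl⟩ := M.surjective v
    refine ⟨w, fun h0 => hv (by rw [h0, map_zero]), ?_⟩
    rw [conjE_apply, ← hM.smul] at e
    exact M.injective e
  · rintro ⟨v, hv, e⟩
    refine ⟨M v, fun h0 => hv ?_, ?_⟩
    · apply M.injective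
      rw [h0, map_zero]
    · rw [conjE_apply, e, hM.smul]

theorem ev_of_mk_eq (hG : Good Q) {s s' : E Q} (h : (s : P Q) = (s' : P Q)) : ∃ l : F, l ≠ 0 ∧
    ∀ x, EvF (s' : (ι → F) ≃ₗ[F] (ι → F)) (l * x) ↔ EvF (s : (ι → F) ≃ₗ[F] (ι → F)) x := by
  obtain ⟨c, hc⟩ := KSideO.scalar_of_center hG (QuotientGroup.eq.1 h)
  have h1 : ∀ v, (s' : (ι → F) ≃ₗ[F] (ι → F)) v = c • (s : (ι → F) ≃ₗ[F] (ι → F)) v := by
    intro v
    have h2 : s' = s * (s⁻¹ * s') := by group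
    have h3 : (s' : (ι → F) ≃ₗ[F] (ι → F)) v = (s : (ι → F) ≃ₗ[F] (ι → F)) ((s⁻¹ * s' : E Q).1 v) :=
      congrArg (fun z : E Q => (z : (ι → F) ≃ₗ[F] (ι → F)) v) h2
    rw [h3, hc, map_smul]
  by_cases hc0 : c = 0
  · refine ⟨1, one_ne_zero, fun x => ?_⟩
    have h2 : ∀ v : ι → F, v = 0 := fun v => (s' : (ι → F) ≃ₗ[F] (ι → F)).map_eq_zero_iff.1 (by
      rw [h1, hc0, zero_smul])
    constructor <;> rintro ⟨v, hv, -⟩ <;> exact absurd (h2 v) hv
  · refine ⟨c, hc0, fun x => ?_⟩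
    constructor
    · rintro ⟨v, hv, e⟩
      refine ⟨v, hv, ?_⟩
      rw [h1, mul_smul] at e
      exact smul_right_injective _ hc0 e
    · rintro ⟨v, hv, e⟩
      refine ⟨v, hv, ?_⟩
      rw [h1, mul_smul, e]

theorem tr_toPOmega (hG : Good Q) (α : MulAut (Cfsg.POmega F ⇑Q)) (g : E Q) :
    tr hG α (g : P Q) = pe hG (α (toPOmega hG g)) := by
  obtain ⟨k, rfl⟩ := (oe hG).surjective g
  rw [tr_apply]
  congr 2
  show _ = QuotientGroup.mk (toOmega hG (oe hG k))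
  congr 1
  exact ((oe hG).symm_apply_apply k).symm

theorem pe_toPOmega (hG : Good Q) (g : E Q) : pe hG (toPOmega hG g) = (g : P Q) := by
  have h := tr_toPOmega hG 1 g
  rw [show tr hG 1 = 1 from map_one (MulAut.congr (pe hG))] at h
  exact h.symm

variable {m : ℕ} (W : WFrame (PO Q) m)

theorem hh_mem (x y : Fin m × Bool) (c : F) : hh (toFrame W) x y c ∈ E Q := by
  have h : ∀ t, nX (toFrame W) x y t ∈ E Q := fun t => mul_mem (mul_mem (X_mem W _ _ _) (X_mem W _ _ _)) (X_mem W _ _ _)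
  exact mul_mem (h c) (inv_mem (h 1))

theorem HO_σ (a : F) : (HO Q).σ a = a := rfl

theorem ev_of_frame {g : (ι → F) ≃ₗ[F] (ι → F)} {z : Fin m × Bool} {l : F}
    (h : g ((toFrame W).b z) = l • (toFrame W).b z) : EvF g l :=
  ⟨_, Nodes.WittRGD.b_ne_zero z, h⟩

/-- `t c = (c, c, 1, …; c⁻¹, c⁻¹, 1, …)` -/
noncomputable def t (hm : 3 ≤ m) (c : Fˣ) : E Q :=
  ⟨hh (toFrame W) (⟨0, by omega⟩, true) (⟨1, by omega⟩, true) c, hh_mem W _ _ _⟩

theorem ne01 (hm : 3 ≤ m) (s s' : Bool) : (((⟨0, by omega⟩, s) : Fin m × Bool)).1 ≠ (((⟨1, by omega⟩, s') : Fin m × Bool)).1 := by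
  intro h
  have := congrArg Fin.val h
  simp at this

theorem t_apply (hm : 3 ≤ m) (c : Fˣ) (z : Fin m × Bool) : (t W hm c : (ι → F) ≃ₗ[F] (ι → F)) ((toFrame W).b z) =
    L (⟨0, by omega⟩, true) (⟨1, by omega⟩, true) (c : F) z • (toFrame W).b z :=
  hh_apply HO_σ (ne01 hm _ _) c.ne_zero z

theorem L_cases (x y : Fin m × Bool) (c : F) (z : Fin m × Bool) : L x y c z = c ∨ L x y c z = c⁻¹ ∨ L x y c z = 1 := by
  unfold L
  split_ifs
  · exact Or.inl rfl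
  · exact Or.inr (Or.inl rfl)
  · exact Or.inr (Or.inr rfl)

theorem ev_t (hm : 3 ≤ m) (c : Fˣ) (x : F) :
    EvF (t W hm c : (ι → F) ≃ₗ[F] (ι → F)) x ↔ x = c ∨ x = (c : F)⁻¹ ∨ x = 1 := by
  constructor
  · rintro ⟨v, hv, e⟩
    by_cases hz : ∃ z, polar Q v ((toFrame W).b z) ≠ 0
    · obtain ⟨z, hz⟩ := hz
      have h1 := polar_map (E_le_O (t W hm c).2) v ((toFrame W).b z)
      rw [t_apply, e, polar_smul_left, polar_smul_right, smul_eq_mul, smul_eq_mul, ← mul_assoc] at h1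
      have h2 := mul_right_cancel₀ hz (h1.trans (one_mul _).symm)
      rcases L_cases (⟨0, by omega⟩, true) (⟨1, by omega⟩, true) (c : F) z with h3 | h3 | h3
      · rw [h3] at h2
        exact Or.inr (Or.inl (eq_inv_of_mul_eq_one_left h2))
      · rw [h3] at h2
        left
        rw [eq_inv_of_mul_eq_one_left h2, inv_inv]
      · rw [h3, mul_one] at h2
        exact Or.inr (Or.inr h2)
    · push Not at hz
      have hv0 : v ∈ W.V0 := Nodes.WittU.mem_V0_of_orth W (fun i => hz (i, true)) (fun i => hz (i, false))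
      have h1 : (t W hm c : (ι → F) ≃ₗ[F] (ι → F)) v = v := hh_V0 (ne01 hm _ _) hv0
      rw [h1] at e
      right; right
      obtain ⟨i, hi⟩ : ∃ i, v i ≠ 0 := by
        by_contra hcon
        push Not at hcon
        exact hv (funext hcon)
      have h2 := congrFun e i
      rw [Pi.smul_apply, smul_eq_mul] at h2
      exact mul_right_cancel₀ hi (h2.symm.trans (one_mul _).symm)
  · rintro (rfl | rfl | rfl)
    · refine ev_of_frame W (z := (⟨0, by omega⟩, true)) ?_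
      rw [t_apply, L_x]
    · refine ev_of_frame W (z := (⟨0, by omega⟩, false)) ?_
      rw [t_apply]
      exact congrArg (fun s : F => s • (toFrame W).b (⟨0, by omega⟩, false)) (L_nx (ne01 hm _ _) _)
    · refine ev_of_frame W (z := (⟨2, by omega⟩, true)) ?_
      rw [t_apply, L_of_ne]
      · intro h
        have := congrArg Fin.val h
        simp at this
      · intro h
        have := congrArg Fin.val h
        simp at this

/-- `x₀ = (a b, a b⁻¹, 1, …; …)` -/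
noncomputable def x0 (hm : 3 ≤ m) (a b : Fˣ) : E Q :=
  ⟨hh (toFrame W) (⟨0, by omega⟩, true) (⟨1, by omega⟩, true) a *
    hh (toFrame W) (⟨0, by omega⟩, true) (⟨1, by omega⟩, false) b, mul_mem (hh_mem W _ _ _) (hh_mem W _ _ _)⟩

theorem x0_apply (hm : 3 ≤ m) (a b : Fˣ) (z : Fin m × Bool) :
    (x0 W hm a b : (ι → F) ≃ₗ[F] (ι → F)) ((toFrame W).b z) =
      (L (⟨0, by omega⟩, true) (⟨1, by omega⟩, true) (a : F) z *
        L (⟨0, by omega⟩, true) (⟨1, by omega⟩, false) (b : F) z) • (toFrame W).b z := by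
  rw [x0, mul_apply', hh_apply HO_σ (ne01 hm _ _) b.ne_zero, map_smul, hh_apply HO_σ (ne01 hm _ _) a.ne_zero, smul_smul, mul_comm]

theorem ev_x0 (hm : 3 ≤ m) (a b : Fˣ) (x : F) (hx : x = a * b ∨ x = ((a : F) * b)⁻¹ ∨ x = (a : F) * (b : F)⁻¹ ∨
    x = ((a : F) * (b : F)⁻¹)⁻¹) : EvF (x0 W hm a b : (ι → F) ≃ₗ[F] (ι → F)) x := by
  rcases hx with rfl | rfl | rfl | rfl
  · refine ev_of_frame W (z := (⟨0, by omega⟩, true)) ?_
    rw [x0_apply, L_x, L_x]
  · refine ev_of_frame W (z := (⟨0, by omega⟩, false)) ?_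
    rw [x0_apply, mul_inv]
    exact congrArg₂ (fun s t : F => (s * t) • (toFrame W).b (⟨0, by omega⟩, false)) (L_nx (ne01 hm _ _) _)
      (L_nx (ne01 hm _ _) _)
  · refine ev_of_frame W (z := (⟨1, by omega⟩, true)) ?_
    rw [x0_apply]
    exact congrArg₂ (fun s t : F => (s * t) • (toFrame W).b (⟨1, by omega⟩, true)) (L_y _ _ _)
      (L_ny (ne01 hm _ _) _)
  · refine ev_of_frame W (z := (⟨1, by omega⟩, false)) ?_
    rw [x0_apply, mul_inv, inv_inv]
    exact congrArg₂ (fun s t : F => (s * t) • (toFrame W).b (⟨1, by omega⟩, false)) (L_ny (ne01 hm _ _) _)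
      (L_y _ _ _)

variable [Finite F] (hG : Good Q) (h7 : 7 ≤ Fintype.card ι) (hP : ∀ α : MulAut (P Q), Pt hG α)

include h7 hP in
theorem auto_t (hm : 3 ≤ m) (c c' : Fˣ) (σ : Cfsg.POmega F ⇑Q ≃* Cfsg.POmega F ⇑Q)
    (h : σ (toPOmega hG (t W hm c)) = toPOmega hG (t W hm c')) :
    ∃ τ : F ≃+* F, (c' : F) = τ c ∨ (c' : F) * τ c = 1 := by
  have h0 := tr_toPOmega hG σ (t W hm c)
  rw [show (σ : MulAut (Cfsg.POmega F ⇑Q)) (toPOmega hG (t W hm c)) = _ from h, pe_toPOmega] at h0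
  obtain ⟨s', τ, h1, h3⟩ := exists_image hG h7 (hP (tr hG σ)) (t W hm c)
  obtain ⟨l, hl, h4⟩ := ev_of_mk_eq hG (h1.symm.trans h0)
  refine ⟨τ, spec_eq (l := l) (a := τ c) (b := c') (by simp) c'.ne_zero hl fun x => ?_⟩
  obtain ⟨x, rfl⟩ := τ.surjective x
  rw [← ev_t W hm c', h4, h3, ev_t]
  rw [τ.injective.eq_iff, ← map_inv₀, τ.injective.eq_iff, map_eq_one_iff τ τ.injective]

include h7 hP in
theorem auto_x0 (hm : 3 ≤ m) (a b : Fˣ) (h2 : (a : F) * a ≠ 1) (h3 : (b : F) * b ≠ 1) (h4 : ((a : F) * b) * (a * b) ≠ 1)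
    (h5 : (a : F) * a ≠ b * b) (c : Fˣ) (σ : Cfsg.POmega F ⇑Q ≃* Cfsg.POmega F ⇑Q) :
    σ (toPOmega hG (t W hm c)) ≠ toPOmega hG (x0 W hm a b) := by
  intro h
  have h0 := tr_toPOmega hG σ (t W hm c)
  rw [show (σ : MulAut (Cfsg.POmega F ⇑Q)) (toPOmega hG (t W hm c)) = _ from h, pe_toPOmega] at h0
  obtain ⟨s', τ, h6, h7⟩ := exists_image hG h7 (hP (tr hG σ)) (t W hm c)
  obtain ⟨l, hl, h8⟩ := ev_of_mk_eq hG (h0.symm.trans h6)
  have ha0 := a.ne_zero
  have hb0 := b.ne_zero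
  have hab : (a : F) * b ≠ 0 := mul_ne_zero ha0 hb0
  have hab' : (a : F) * (b : F)⁻¹ ≠ 0 := mul_ne_zero ha0 (inv_ne_zero hb0)
  have key : ∀ x y : F, y ≠ 0 → x * y ≠ 1 → x ≠ y⁻¹ := by
    intro x y hy h9 h10
    exact h9 (by rw [h10, inv_mul_cancel₀ hy])
  have e1 : (a : F) * b * (a * (b : F)⁻¹) = a * a := by field_simp
  refine spec_ne (a := (a : F) * b) (b := ((a : F) * b)⁻¹) (c := (a : F) * (b : F)⁻¹) (d := ((a : F) * (b : F)⁻¹)⁻¹)
    (e := τ c) (l := l) (key _ _ hab h4) ?_ (key _ _ hab' (by rwa [e1])) (key _ _ hab (by rwa [mul_comm, e1])).symm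
    ?_ (key _ _ hab' ?_) hl fun x hx => ?_
  · intro h9
    exact h3 (by
      have h10 := mul_left_cancel₀ ha0 h9
      nth_rw 1 [h10]
      exact inv_mul_cancel₀ hb0)
  · intro h9
    have h10 := mul_left_cancel₀ ha0 (inv_injective h9)
    exact h3 (by
      nth_rw 1 [h10]
      exact inv_mul_cancel₀ hb0)
  · intro h9
    apply h5
    field_simp at h9
    rw [pow_two, pow_two] at h9
    exact h9
  have h9 := (h8 x).2 (ev_x0 W hm a b x hx)
  obtain ⟨y, hy⟩ := τ.surjective (l * x)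
  rw [← hy] at h9 ⊢
  rw [h7, ev_t] at h9
  rcases h9 with rfl | rfl | rfl
  · exact Or.inl rfl
  · exact Or.inr (Or.inl (map_inv₀ τ _))
  · exact Or.inr (Or.inr (map_one τ))

end orth

end Cfsg.Agent.H563.XZ.OwnOm
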