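import Cfsg.Agent.H563.XZ.OwnTor
import Cfsg.Agent.H198.SympGamma

set_option autoImplicit false
set_option linter.unusedSectionVars false

namespace Cfsg.Agent.H563.XZ.OwnSp

open Cfsg Matrix Cfsg.Agent.H563.XZ.OwnTor Cfsg.Agent.ClassicalGeometry.SympAutSemi
  Cfsg.Agent.ClassicalGeometry.SympBasic Cfsg.Agent.TitsThree.SpIdent Cfsg.Agent.H198.SemiMat

universe u

variable {F : Type u} [Field F] {m : ℕ}

/-- diagonal symplectic matrices -/
def D (d : Fin m → Fˣ) : Matrix.symplecticGroup (Fin m) F :=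
  ⟨Matrix.diagonal (Sum.elim (fun i => (d i : F)⁻¹) (fun i => (d i : F))), by
    rw [SymplecticGroup.mem_iff, Matrix.diagonal_transpose]
    ext i j
    rw [Matrix.mul_diagonal, Matrix.diagonal_mul]
    rcases i with i | i <;> rcases j with j | j
    · simp [J]
    · by_cases hij : i = j
      · subst hij; simp [J]
      · simp [J, hij]
    · by_cases hij : i = j
      · subst hij; simp [J]
      · simp [J, hij]
    · simp [J]⟩

theorem coe_D (d : Fin m → Fˣ) : (D d : Matrix (Fin m ⊕ Fin m) (Fin m ⊕ Fin m) F) =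
    Matrix.diagonal (Sum.elim (fun i => (d i : F)⁻¹) (fun i => (d i : F))) := rfl

theorem ev_D (d : Fin m → Fˣ) (x : F) :
    Ev (D d : Matrix (Fin m ⊕ Fin m) (Fin m ⊕ Fin m) F) x ↔ ∃ i, (d i : F)⁻¹ = x ∨ (d i : F) = x := by
  rw [coe_D, ev_diagonal]
  constructor
  · rintro ⟨i | i, h⟩
    · exact ⟨i, Or.inl h⟩
    · exact ⟨i, Or.inr h⟩
  · rintro ⟨i, h | h⟩
    · exact ⟨Sum.inl i, h⟩
    · exact ⟨Sum.inr i, h⟩

/-- the torus of the root group datum -/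
theorem mem_T (d : Fin m → Fˣ) :
    (QuotientGroup.mk (D d) : PSp m F) ∈ Nodes.WittModel.T (TitsThree.KInstSp.model m F) := by
  refine ⟨⟨ofSp (D d), ofSp_mem (D d)⟩, ?_, ?_⟩
  · refine ⟨ofSp_mem (D d), ?_⟩
    rintro ⟨i, s⟩
    cases s
    · refine ⟨(d i : F)⁻¹, inv_ne_zero (d i).ne_zero, ?_⟩
      show (D d : Matrix (Fin m ⊕ Fin m) (Fin m ⊕ Fin m) F) *ᵥ f m F i = (d i : F)⁻¹ • f m F i
      rw [coe_D, f, Matrix.diagonal_mulVec_single, Sum.elim_inl, mul_one, ← Pi.single_smul', smul_eq_mul, mul_one]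
    · refine ⟨(d i : F), (d i).ne_zero, ?_⟩
      show (D d : Matrix (Fin m ⊕ Fin m) (Fin m ⊕ Fin m) F) *ᵥ e m F i = (d i : F) • e m F i
      rw [coe_D, e, Matrix.diagonal_mulVec_single, Sum.elim_inr, mul_one, ← Pi.single_smul', smul_eq_mul, mul_one]
  · show QuotientGroup.mk (toSp ⟨ofSp (D d), ofSp_mem (D d)⟩) = _
    rw [toSp_ofSp]

/-- the image of a symplectic matrix under an automorphism of `PSp` -/
theorem exists_image [Finite F] (hm : 2 ≤ m) (h2 : (2 : F) ≠ 0) (σ : PSp m F ≃* PSp m F)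
    (s : Matrix.symplecticGroup (Fin m) F) :
    ∃ (s' : Matrix.symplecticGroup (Fin m) F) (τ : F ≃+* F), σ (QuotientGroup.mk s) = QuotientGroup.mk s' ∧
      ∀ x, Ev (s' : Matrix (Fin m ⊕ Fin m) (Fin m ⊕ Fin m) F) (τ x) ↔
        Ev (s : Matrix (Fin m ⊕ Fin m) (Fin m ⊕ Fin m) F) x := by
  obtain ⟨g, hg⟩ := ClassicalGeometry.SympAutExists.exists_semi hm (σ : MulAut (PSp m F))
    (ClassicalGeometry.SympAutOddA.recog hm (Or.inr h2) σ)
  obtain ⟨τ, l, hl, ha, hs, hf⟩ := g.2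
  refine ⟨conjHom m F g s, τ, ?_, fun x => ?_⟩
  · have h1 : σ (QuotientGroup.mk s) = Psi m F g (QuotientGroup.mk s) := by rw [hg]
    rw [h1, Psi_mk]
  · refine ev_semi (T := { toEquiv := g.1, map_add' := ha }) hs (fun v => ?_)
    show rho m F (conjHom m F g s) (g.1 v) = g.1 (rho m F s v)
    rw [rho_conjHom, Equiv.Perm.mul_apply, Equiv.Perm.mul_apply, perm_inv_apply_self]

/-- two lifts of the same element -/
theorem ev_of_mk_eq {s s' : Matrix.symplecticGroup (Fin m) F}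
    (h : (QuotientGroup.mk s : PSp m F) = QuotientGroup.mk s') : ∃ l : F, l ≠ 0 ∧
      ∀ x, Ev (s' : Matrix (Fin m ⊕ Fin m) (Fin m ⊕ Fin m) F) (l * x) ↔
        Ev (s : Matrix (Fin m ⊕ Fin m) (Fin m ⊕ Fin m) F) x := by
  rcases Nat.eq_zero_or_pos m with rfl | hm
  · refine ⟨1, one_ne_zero, fun x => ?_⟩
    constructor <;> rintro ⟨v, hv, -⟩ <;> exact absurd (Subsingleton.elim v 0) hv
  obtain ⟨a, ha⟩ := (LieClassical.SympCenter.mem_center_iff m _).1 (QuotientGroup.eq.1 h)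
  have h1 : (s' : Matrix (Fin m ⊕ Fin m) (Fin m ⊕ Fin m) F) = a • (s : Matrix (Fin m ⊕ Fin m) (Fin m ⊕ Fin m) F) := by
    have h2 : s' = s * (s⁻¹ * s') := by group
    have h3 : (s' : Matrix (Fin m ⊕ Fin m) (Fin m ⊕ Fin m) F) =
        (s : Matrix (Fin m ⊕ Fin m) (Fin m ⊕ Fin m) F) * (s⁻¹ * s' : Matrix.symplecticGroup (Fin m) F).1 :=
      congrArg Subtype.val h2
    rw [h3, ha, Matrix.mul_smul, Matrix.mul_one]
  have ha0 : a ≠ 0 := by
    rintro rfl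
    rw [zero_smul] at h1
    have h2 : (s'⁻¹ * s' : Matrix.symplecticGroup (Fin m) F).1 = (s'⁻¹).1 * s'.1 := rfl
    rw [inv_mul_cancel, h1, Matrix.mul_zero] at h2
    have h3 := congrFun (congrFun h2 (Sum.inl ⟨0, hm⟩)) (Sum.inl ⟨0, hm⟩)
    simp at h3
  exact ⟨a, ha0, fun x => by rw [h1, ev_smul ha0]⟩

/-- `t c = diag(c, 1, …; c⁻¹, 1, …)` -/
def t (hm : 2 ≤ m) (c : Fˣ) : Matrix.symplecticGroup (Fin m) F := D (Function.update 1 ⟨0, by omega⟩ c)

theorem ev_t (hm : 2 ≤ m) (c : Fˣ) (x : F) :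
    Ev (t hm c : Matrix (Fin m ⊕ Fin m) (Fin m ⊕ Fin m) F) x ↔ x = c ∨ x = (c : F)⁻¹ ∨ x = 1 := by
  rw [t, ev_D]
  constructor
  · rintro ⟨i, h⟩
    by_cases hi : i = ⟨0, by omega⟩
    · subst hi
      rw [Function.update_self] at h
      rcases h with h | h
      · exact Or.inr (Or.inl h.symm)
      · exact Or.inl h.symm
    · rw [Function.update_of_ne hi, Pi.one_apply, Units.val_one, inv_one, or_self] at h
      exact Or.inr (Or.inr h.symm)
  · rintro (rfl | rfl | rfl)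
    · exact ⟨⟨0, by omega⟩, Or.inr (by rw [Function.update_self])⟩
    · exact ⟨⟨0, by omega⟩, Or.inl (by rw [Function.update_self])⟩
    · refine ⟨⟨1, by omega⟩, Or.inr ?_⟩
      rw [Function.update_of_ne (by intro h; simpa using congrArg Fin.val h)]
      rfl

theorem auto_t [Finite F] (hm : 2 ≤ m) (h2 : (2 : F) ≠ 0) (c c' : Fˣ) (σ : PSp m F ≃* PSp m F)
    (h : σ (QuotientGroup.mk (t hm c)) = QuotientGroup.mk (t hm c')) :
    ∃ τ : F ≃+* F, (c' : F) = τ c ∨ (c' : F) * τ c = 1 := by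
  obtain ⟨s', τ, h1, h3⟩ := exists_image hm h2 σ (t hm c)
  obtain ⟨l, hl, h4⟩ := ev_of_mk_eq (h1.symm.trans h)
  refine ⟨τ, spec_eq (l := l) (a := τ c) (b := c') (by simp) c'.ne_zero hl fun x => ?_⟩
  obtain ⟨x, rfl⟩ := τ.surjective x
  rw [← ev_t hm c', h4, h3, ev_t]
  rw [τ.injective.eq_iff, ← map_inv₀, τ.injective.eq_iff, map_eq_one_iff τ τ.injective]

/-- `x₀ = diag(a, b, 1, …; a⁻¹, b⁻¹, 1, …)` -/
def x0 (hm : 2 ≤ m) (a b : Fˣ) : Matrix.symplecticGroup (Fin m) F :=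
  D (Function.update (Function.update 1 ⟨0, by omega⟩ a) ⟨1, by omega⟩ b)

theorem auto_x0 [Finite F] (hm : 2 ≤ m) (h2 : (2 : F) ≠ 0) (a b : Fˣ) (h1 : (a : F) ≠ b) (h3 : (a : F) * b ≠ 1)
    (h4 : (a : F) * a ≠ 1) (h5 : (b : F) * b ≠ 1) (c : Fˣ) (σ : PSp m F ≃* PSp m F) :
    σ (QuotientGroup.mk (t hm c)) ≠ QuotientGroup.mk (x0 hm a b) := by
  intro h
  obtain ⟨s', τ, h6, h7⟩ := exists_image hm h2 σ (t hm c)
  obtain ⟨l, hl, h8⟩ := ev_of_mk_eq (h.symm.trans h6)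
  have ha0 := a.ne_zero
  have hb0 := b.ne_zero
  have key : ∀ x y : F, y ≠ 0 → x * y ≠ 1 → x ≠ y⁻¹ := by
    intro x y hy h9 h10
    exact h9 (by rw [h10, inv_mul_cancel₀ hy])
  refine spec_ne (a := (a : F)) (b := (a : F)⁻¹) (c := (b : F)) (d := (b : F)⁻¹) (e := τ c) (l := l)
    (key _ _ ha0 h4) h1 (key _ _ hb0 h3) (key _ _ ha0 (by rwa [mul_comm])).symm
    (fun h => h1 (inv_injective h)) (key _ _ hb0 h5) hl fun x hx => ?_
  have h9 : Ev (s' : Matrix (Fin m ⊕ Fin m) (Fin m ⊕ Fin m) F) (l * x) := by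
    rw [h8, x0, ev_D]
    have e0 : Function.update (Function.update (1 : Fin m → Fˣ) ⟨0, by omega⟩ a) ⟨1, by omega⟩ b ⟨0, by omega⟩ = a := by
      rw [Function.update_of_ne (by intro h; simpa using congrArg Fin.val h), Function.update_self]
    have e1 : Function.update (Function.update (1 : Fin m → Fˣ) ⟨0, by omega⟩ a) ⟨1, by omega⟩ b ⟨1, by omega⟩ = b := by
      rw [Function.update_self]
    rcases hx with rfl | rfl | rfl | rfl
    · exact ⟨⟨0, by omega⟩, Or.inr (by rw [e0])⟩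
    · exact ⟨⟨0, by omega⟩, Or.inl (by rw [e0])⟩
    · exact ⟨⟨1, by omega⟩, Or.inr (by rw [e1])⟩
    · exact ⟨⟨1, by omega⟩, Or.inl (by rw [e1])⟩
  obtain ⟨y, hy⟩ := τ.surjective (l * x)
  rw [← hy] at h9 ⊢
  rw [h7, ev_t] at h9
  rcases h9 with rfl | rfl | rfl
  · exact Or.inl rfl
  · exact Or.inr (Or.inl (map_inv₀ τ _))
  · exact Or.inr (Or.inr (map_one τ))

/-- the torus normalizes a Sylow subgroup -/
theorem exists_sylow [Finite F] {p : ℕ} [hp : Fact p.Prime] [CharP F p] (hm : 2 ≤ m)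
    [IsSimpleGroup (PSp m F)] : ∃ Q : Sylow p (PSp m F), ∀ d : Fin m → Fˣ,
      ¬ p ∣ orderOf (QuotientGroup.mk (D d) : PSp m F) ∧ ∀ u ∈ (Q : Subgroup (PSp m F)),
        (QuotientGroup.mk (D d) : PSp m F) * u * (QuotientGroup.mk (D d))⁻¹ ∈ (Q : Subgroup (PSp m F)) := by
  have : Nonempty (Fin m) := ⟨⟨0, by omega⟩⟩
  have : Finite (CoxeterMatrix.B m).Group := Nodes.TypeC.finite_W (CoxeterMatrix.B m).toCoxeterSystem
  have R := Nodes.WittAll.rgdC_model (TitsThree.KInstSp.model m F) (Nodes.WittAll.AmbT.of_amb Nodes.WittU.amb_Sp p)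
    (p0 := adm 1) one_ne_zero (CoxeterMatrix.B m).toCoxeterSystem
  obtain ⟨Q, hQ⟩ := torus_of_rgd hp R (Nodes.WittModel.G1_eq_top _ (by omega) _)
  exact ⟨Q, fun d => hQ _ (mem_T d)⟩

end Cfsg.Agent.H563.XZ.OwnSp
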